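import Mathlib

/-!
# The three degrees of the `U₃(4)` type: arithmetic
-/

set_option autoImplicit false

namespace CfsgLib.Involution.AllNilpotent

theorem four_dvd_sub_one {D u : ℤ} (h1 : 64 ∣ D + 3 * u - 4) (h2 : 64 ∣ D * D + 3 * u * u - 4) :
    4 ∣ u - 1 := by
  obtain ⟨j, hj⟩ := h1
  obtain ⟨l, hl⟩ := h2
  obtain rfl : D = 4 - 3 * u + 64 * j := by linarith
  have key : 12 * ((u - 1) * (u - 1)) = 64 * (l - 8 * j + 6 * u * j - 64 * j * j) := by linarith
  obtain ⟨q, r, hr0, hr4, hur⟩ : ∃ q r : ℤ, 0 ≤ r ∧ r < 4 ∧ u - 1 = 4 * q + r :=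
    ⟨(u - 1) / 4, (u - 1) % 4, Int.emod_nonneg _ (by norm_num), Int.emod_lt_of_pos _ (by norm_num),
      (Int.mul_ediv_add_emod _ _).symm⟩
  rw [hur] at key ⊢
  interval_cases r
  · exact ⟨q, by ring⟩
  all_goals
    exfalso
    ring_nf at key
    omega

theorem not_zero_of_bounds {x y z p q r a b c : ℤ} (ha : 0 < a) (hb : 0 < b) (hc : 0 < c)
    (hp : 0 ≤ p) (hq : 0 ≤ q) (hr : 0 ≤ r) (hx : a ≤ |x|) (hy : b ≤ |y|) (hz : c ≤ |z|)
    (hlt : p * b * c + q * a * c + r * a * b < a * b * c) :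
    x * y * z + p * (y * z) + q * (x * z) + r * (x * y) ≠ 0 := by
  intro h
  have h0 : |x * y * z| ≤ p * |y * z| + q * |x * z| + r * |x * y| := by
    rw [show x * y * z = -(p * (y * z)) + (-(q * (x * z)) + -(r * (x * y))) by linarith]
    refine (abs_add_le _ _).trans ?_
    have := abs_add_le (-(q * (x * z))) (-(r * (x * y)))
    simp only [abs_neg, abs_mul p, abs_mul q, abs_mul r, abs_of_nonneg hp, abs_of_nonneg hq,
      abs_of_nonneg hr] at this ⊢
    linarith
  simp only [abs_mul] at h0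
  have X := abs_nonneg x
  have Y := abs_nonneg y
  have Z := abs_nonneg z
  have hP : 0 < |x| * |y| * |z| :=
    mul_pos (mul_pos (ha.trans_le hx) (hb.trans_le hy)) (hc.trans_le hz)
  have e1 : a * (|y| * |z|) ≤ |x| * |y| * |z| := by nlinarith [mul_nonneg Y Z]
  have e2 : b * (|x| * |z|) ≤ |x| * |y| * |z| := by nlinarith [mul_nonneg X Z]
  have e3 : c * (|x| * |y|) ≤ |x| * |y| * |z| := by nlinarith [mul_nonneg X Y]
  have f1 := mul_le_mul_of_nonneg_left e1 (mul_nonneg (mul_nonneg hp hb.le) hc.le)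
  have f2 := mul_le_mul_of_nonneg_left e2 (mul_nonneg (mul_nonneg hq ha.le) hc.le)
  have f3 := mul_le_mul_of_nonneg_left e3 (mul_nonneg (mul_nonneg hr ha.le) hb.le)
  have f0 := mul_le_mul_of_nonneg_left h0 (mul_nonneg (mul_nonneg ha.le hb.le) hc.le)
  nlinarith [mul_lt_mul_of_pos_right hlt hP]

theorem abs_ge {D r : ℤ} (h : 64 ∣ D - r) (hr : |r| ≤ 32) : |r| ≤ |D| := by
  obtain ⟨k, hk⟩ := h
  have h1 := abs_le.1 hr
  rcases le_or_gt 0 r with hr0 | hr0 <;> rcases le_or_gt 0 D with hD | hD <;>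
    simp only [abs_of_nonneg, abs_of_neg, hr0, hD] <;> omega

theorem sixty_three_le {D : ℤ} (h : 64 ∣ D - 1) (h1 : D ≠ 1) : 63 ≤ |D| := by
  obtain ⟨k, hk⟩ := h
  rcases le_or_gt 0 D with hD | hD
  · rw [abs_of_nonneg hD]; omega
  · rw [abs_of_neg hD]; omega

theorem false_of_three {DA DB DC u v w : ℤ}
    (hA1 : 64 ∣ DA + 3 * u - 4) (hA2 : 64 ∣ DA * DA + 3 * u * u - 4)
    (hB1 : 64 ∣ DB + 3 * v - 4) (hB2 : 64 ∣ DB * DB + 3 * v * v - 4)
    (hC1 : 64 ∣ DC + 3 * w + 12)
    (hsum : u + v + w = -1) (hbound : 1 + u * u + v * v + 5 * (w * w) ≤ 64)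
    (hA : DA ≠ 1) (hB : DB ≠ 1)
    (hid : DA * DB * DC + u * u * (DB * DC) + v * v * (DA * DC) + w * w * (DA * DB) = 0) : False := by
  obtain ⟨i, hi⟩ := four_dvd_sub_one hA1 hA2
  obtain ⟨j, hj⟩ := four_dvd_sub_one hB1 hB2
  obtain rfl : u = 4 * i + 1 := by linarith
  obtain rfl : v = 4 * j + 1 := by linarith
  obtain rfl : w = -3 - 4 * i - 4 * j := by linarith
  have hi' : -2 ≤ i ∧ i ≤ 1 := by
    constructor <;> nlinarith [mul_self_nonneg (4 * j + 1), mul_self_nonneg (-3 - 4 * i - 4 * j)]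
  have hj' : -2 ≤ j ∧ j ≤ 1 := by
    constructor <;> nlinarith [mul_self_nonneg (4 * i + 1), mul_self_nonneg (-3 - 4 * i - 4 * j)]
  obtain ⟨hi0, hi1⟩ := hi'
  obtain ⟨hj0, hj1⟩ := hj'
  interval_cases i <;> interval_cases j
  all_goals try norm_num at hbound
  all_goals try norm_num at hA1 hB1 hC1 hid
  · -- `u = -3`, `v = 1`, `w = 1`
    have a := abs_ge (r := 13) (D := DA) (by omega) (by norm_num)
    have b := sixty_three_le (D := DB) (by omega) hB
    have c := abs_ge (r := -15) (D := DC) (by omega) (by norm_num)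
    norm_num at a c
    exact not_zero_of_bounds (p := 9) (q := 1) (r := 1) (a := 13) (b := 63) (c := 15) (by norm_num)
      (by norm_num) (by norm_num) (by norm_num) (by norm_num) (by norm_num) a b c (by norm_num)
      (by linarith)
  · -- `u = 1`, `v = -3`, `w = 1`
    have a := sixty_three_le (D := DA) (by omega) hA
    have b := abs_ge (r := 13) (D := DB) (by omega) (by norm_num)
    have c := abs_ge (r := -15) (D := DC) (by omega) (by norm_num)
    norm_num at b c
    exact not_zero_of_bounds (p := 1) (q := 9) (r := 1) (a := 63) (b := 13) (c := 15) (by norm_num)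
      (by norm_num) (by norm_num) (by norm_num) (by norm_num) (by norm_num) a b c (by norm_num)
      (by linarith)
  · -- `u = 1`, `v = 1`, `w = -3`
    have a := sixty_three_le (D := DA) (by omega) hA
    have b := sixty_three_le (D := DB) (by omega) hB
    by_cases hC : DC = -3
    · subst hC
      have e : 2 * (DA * DB) = DA + DB := by linarith
      have h1 := abs_add_le DA DB
      rw [← e, abs_mul, abs_mul] at h1
      norm_num at h1
      nlinarith
    · have c : 61 ≤ |DC| := by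
        rcases le_or_gt 0 DC with hD | hD
        · rw [abs_of_nonneg hD]; omega
        · rw [abs_of_neg hD]; omega
      exact not_zero_of_bounds (p := 1) (q := 1) (r := 9) (a := 63) (b := 63) (c := 61) (by norm_num)
        (by norm_num) (by norm_num) (by norm_num) (by norm_num) (by norm_num) a b c (by norm_num)
        (by linarith)

end CfsgLib.Involution.AllNilpotent
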