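import Cfsg.Agent.Lib.Involution.AllNilpotent.Dual
import Cfsg.Agent.Lib.Char.Integral

/-!
# Sections and inner products for functions of the 2-part
-/

set_option autoImplicit false
set_option linter.style.haveILetI false
set_option linter.unusedSectionVars false

namespace CfsgLib.Involution.AllNilpotent

open Cfsg CfsgLib.BrauerSuzuki CfsgLib.Blocks
open CfsgLib.BrauerSuzuki.Homocyclic (twoPart twoPart_spec twoPart_pow twoPart_mul FInv sFun sFun_eq
  sFun_coe sFun_of_odd sFun_isClassFunction exists_conj_twoPart sum_fiber regCard card_filter_conj)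
open scoped _root_.Classical ComplexConjugate

variable {G : Type*} [Group G] [Fintype G] {S : Sylow 2 G}

theorem twoPart_self {z : G} {k : ℕ} (hk : orderOf z = 2 ^ k) : twoPart z = z := by
  have := twoPart_mul (Commute.one_right z) hk (by rw [orderOf_one]; norm_num)
  rwa [mul_one] at this

theorem sFun_two {f : G → ℂ} (hf : FInv S f) {z u : G} {k : ℕ} (hk : orderOf z = 2 ^ k)
    (hu : u * z * u⁻¹ ∈ (S : Subgroup G)) : sFun S f z = f (u * z * u⁻¹) := by
  rw [sFun_eq hf (u := u) (by rw [twoPart_self hk]; exact hu), twoPart_self hk]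

theorem sFun_section {f : G → ℂ} (hf : FInv S f) {z : G} {k : ℕ} (hk : orderOf z = 2 ^ k)
    (s : Subgroup.centralizer ({z} : Set G)) (hs : IsPRegular 2 s) :
    sFun S f (z * (s : G)) = sFun S f z := by
  have e1 : twoPart (z * (s : G)) = z :=
    twoPart_mul (Subgroup.mem_centralizer_singleton_iff.1 s.2).symm hk
      (by rw [Subgroup.orderOf_coe]; exact hs)
  obtain ⟨u, hu⟩ := exists_conj_twoPart S z
  rw [twoPart_self hk] at hu
  rw [sFun_two hf hk hu, sFun_eq hf (u := u) (by rw [e1]; exact hu), e1]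

/-- The sum over the sections. -/
theorem sum_sections {f : G → ℂ} (hf : FInv S f) (hf1 : f 1 = 0) {Ψ : G → ℂ}
    (hconst : ∀ z : G, (∃ k, orderOf z = 2 ^ k) → z ≠ 1 →
      ∀ s : Subgroup.centralizer ({z} : Set G), IsPRegular 2 s → Ψ (z * (s : G)) = Ψ z) :
    ∑ g : G, sFun S f g * conj (Ψ g) = ∑ z ∈ Finset.univ.filter (fun z : G => ∃ k, orderOf z = 2 ^ k),
      sFun S f z * conj (Ψ z) * regCard z := by
  rw [← Finset.sum_fiberwise_of_maps_to (g := twoPart)
    (t := Finset.univ.filter fun z : G => ∃ k, orderOf z = 2 ^ k)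
    (fun g _ => Finset.mem_filter.2 ⟨Finset.mem_univ _, twoPart_pow g⟩)]
  refine Finset.sum_congr rfl fun z hz => ?_
  obtain ⟨k, hk⟩ := (Finset.mem_filter.1 hz).2
  rw [sum_fiber (fun g => sFun S f g * conj (Ψ g)) hk]
  by_cases hz1 : z = 1
  · subst hz1
    rw [sFun_of_odd hf (by rw [orderOf_one]; norm_num), hf1, zero_mul, zero_mul, Finset.sum_eq_zero]
    intro s hs
    rw [one_mul, sFun_of_odd hf (by rw [Subgroup.orderOf_coe]; exact (Finset.mem_filter.1 hs).2), hf1,
      zero_mul]
  · rw [Finset.sum_congr rfl (g := fun _ => sFun S f z * conj (Ψ z)) fun s hs => by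
      rw [sFun_section hf hk s (Finset.mem_filter.1 hs).2,
        hconst z ⟨k, hk⟩ hz1 s (Finset.mem_filter.1 hs).2],
      Finset.sum_const, nsmul_eq_mul, mul_comm]
    rfl

namespace Rotation

variable {n : G} (h : Rotation S n)
include h

theorem isConj_involution {t v : G} (ht : t ∈ zed S) (ht1 : t ≠ 1) (hv : orderOf v = 2) :
    IsConj t v := by
  obtain ⟨u, hu⟩ := exists_conj_mem_sylow S (R := Subgroup.zpowers v)
    (IsPGroup.of_card (n := 1) (by rw [Nat.card_zpowers, hv, pow_one]))
  have hm := h.mem_zed_of_orderOf (hu v (Subgroup.mem_zpowers v)) ((orderOf_conj' u v).trans hv)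
  refine (h.isConj_zed ht ht1 hm fun e => ?_).trans (isConj_iff.2 ⟨u, rfl⟩).symm
  rw [conj_eq_one_iff] at e
  rw [e, orderOf_one] at hv
  omega

/-- Every nontrivial 2-element of `S` centralises a central involution that it determines. -/
theorem exists_central {x : (S : Subgroup G)} (hx : x ≠ 1) :
    ∃ t ∈ zed S, t ≠ 1 ∧ ∀ c : G, c * x = x * c → c * t = t * c := by
  by_cases hxz : (x : G) ∈ zed S
  · exact ⟨x, hxz, fun e => hx (Subtype.ext e), fun c hc => hc⟩
  · exact ⟨(x : G) ^ 2, h.sq_mem x.2, h.sq_ne_one x.2 hxz,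
      fun c hc => ((show Commute c (x : G) from hc).pow_right 2).eq⟩

theorem npc_centralizer {z : G} {k : ℕ} (hk : orderOf z = 2 ^ k) (hz1 : z ≠ 1) :
    Cfsg.HasNormalPComplement 2 ↥(Subgroup.centralizer ({z} : Set G)) := by
  haveI : Fact (Nat.Prime 2) := ⟨Nat.prime_two⟩
  obtain ⟨u, hu⟩ := exists_conj_mem_sylow S (R := Subgroup.zpowers z)
    (IsPGroup.of_card (n := k) (by rw [Nat.card_zpowers, hk]))
  obtain ⟨t, ht, ht1, hct⟩ := h.exists_central (x := ⟨_, hu z (Subgroup.mem_zpowers z)⟩)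
    (fun e => hz1 (conj_eq_one_iff.1 (congrArg Subtype.val e)))
  refine CfsgLib.Fusion.Basic.npc_of_injective
    (((MulAut.conj u).toMonoidHom.comp (Subgroup.centralizer ({z} : Set G)).subtype).codRestrict _
      fun c => Subgroup.mem_centralizer_singleton_iff.2 (hct _ ?_)) ?_ (h.npc t (h.orderOf_zed ht ht1))
  · show u * (c : G) * u⁻¹ * (u * z * u⁻¹) = u * z * u⁻¹ * (u * (c : G) * u⁻¹)
    calc u * (c : G) * u⁻¹ * (u * z * u⁻¹) = u * ((c : G) * z) * u⁻¹ := by group
      _ = u * (z * (c : G)) * u⁻¹ := by rw [Subgroup.mem_centralizer_singleton_iff.1 c.2]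
      _ = _ := by group
  · intro a b e
    exact Subtype.ext ((MulAut.conj u).injective (congrArg Subtype.val e))

theorem regCard_conj {z u : G} : regCard z = regCard (u * z * u⁻¹) := by
  set x := u * z * u⁻¹ with hxd
  let e : ↥(Subgroup.centralizer ({z} : Set G)) ≃ ↥(Subgroup.centralizer ({x} : Set G)) :=
    (MulAut.conj u).toEquiv.subtypeEquiv fun c => by
      rw [Subgroup.mem_centralizer_singleton_iff, Subgroup.mem_centralizer_singleton_iff]
      show c * z = z * c ↔ u * c * u⁻¹ * x = x * (u * c * u⁻¹)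
      rw [hxd, show u * c * u⁻¹ * (u * z * u⁻¹) = u * (c * z) * u⁻¹ by group,
        show u * z * u⁻¹ * (u * c * u⁻¹) = u * (z * c) * u⁻¹ by group, mul_left_inj, mul_right_inj]
  unfold regCard
  refine Finset.card_equiv e fun s => ?_
  rw [Finset.mem_filter, Finset.mem_filter]
  refine and_congr (by simp) ?_
  show ¬ 2 ∣ orderOf s ↔ ¬ 2 ∣ orderOf (e s)
  rw [← Subgroup.orderOf_coe s, ← Subgroup.orderOf_coe (e s),
    show ((e s : G)) = u * (s : G) * u⁻¹ from rfl, orderOf_conj']

theorem regCard_mul (x : (S : Subgroup G)) (hx : x ≠ 1) :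
    (regCard (x : G) : ℕ) * Nat.card (Subgroup.centralizer ({x} : Set (S : Subgroup G))) =
      Nat.card (Subgroup.centralizer ({(x : G)} : Set G)) := by
  haveI : Fact (Nat.Prime 2) := ⟨Nat.prime_two⟩
  obtain ⟨t, ht, ht1, hct⟩ := h.exists_central hx
  have hSC := h.sylow_le_centralizer ht
  obtain ⟨π, hπ, hker⟩ := exists_retraction (h.npc t (h.orderOf_zed ht ht1)) (S.subtype hSC)
  let i : ↥(Subgroup.centralizer ({(x : G)} : Set G)) →* ↥(Subgroup.centralizer ({t} : Set G)) :=
    Subgroup.inclusion fun c hc =>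
      Subgroup.mem_centralizer_singleton_iff.2 (hct c (Subgroup.mem_centralizer_singleton_iff.1 hc))
  let ψ := π.comp i
  have hk' : regCard (x : G) = Nat.card ψ.ker := by
    rw [regCard, Nat.card_eq_fintype_card, Fintype.card_subtype]
    refine congrArg Finset.card (Finset.filter_congr fun s _ => ?_)
    rw [MonoidHom.mem_ker]
    refine ⟨fun hs => ?_, fun hs => ?_⟩
    · obtain ⟨j, hj⟩ := IsPGroup.iff_orderOf.mp (S.subtype hSC).2 (ψ s)
      by_contra hne
      have hj0 : j ≠ 0 := fun h0 => hne (orderOf_eq_one_iff.mp (by rw [hj, h0, pow_zero]))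
      exact hs (((dvd_pow_self 2 hj0).trans (dvd_of_eq hj.symm)).trans (orderOf_map_dvd ψ s))
    · have h1 := hker (i s) hs
      rw [show orderOf (i s) = orderOf s from (orderOf_injective i (Subgroup.inclusion_injective _) s)] at h1
      exact (Nat.Prime.coprime_iff_not_dvd Nat.prime_two).mp h1.symm
  have hx' : (⟨(x : G), hSC x.2⟩ : ↥(Subgroup.centralizer ({t} : Set G))) ∈
      ((S.subtype hSC : Subgroup ↥(Subgroup.centralizer ({t} : Set G)))) :=
    Subgroup.mem_subgroupOf.2 x.2
  have hrange : Nat.card ψ.range = Nat.card (Subgroup.centralizer ({x} : Set (S : Subgroup G))) := by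
    refine Nat.card_congr
      { toFun := fun y => ⟨⟨((y.1 : ↥(Subgroup.centralizer ({t} : Set G))) : G),
          Subgroup.mem_subgroupOf.1 y.1.2⟩, ?_⟩
        invFun := fun s => ⟨⟨⟨((s : (S : Subgroup G)) : G), hSC s.1.2⟩, Subgroup.mem_subgroupOf.2 s.1.2⟩,
          ⟨⟨((s : (S : Subgroup G)) : G), Subgroup.mem_centralizer_singleton_iff.2
            (congrArg Subtype.val (Subgroup.mem_centralizer_singleton_iff.1 s.2))⟩, hπ ⟨_, _⟩⟩⟩
        left_inv := fun y => rfl
        right_inv := fun s => rfl }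
    obtain ⟨c, hc⟩ := y.2
    rw [Subgroup.mem_centralizer_singleton_iff]
    have hcx : Commute (i c) ⟨(x : G), hSC x.2⟩ :=
      Subtype.ext (Subgroup.mem_centralizer_singleton_iff.1 c.2)
    have := hcx.map π
    rw [show π ⟨(x : G), hSC x.2⟩ = ⟨_, hx'⟩ from hπ ⟨_, hx'⟩, show π (i c) = y.1 from hc] at this
    refine Subtype.ext ?_
    have h2 := congrArg (fun q : ↥(S.subtype hSC : Subgroup ↥(Subgroup.centralizer ({t} : Set G))) =>
      ((q : ↥(Subgroup.centralizer ({t} : Set G))) : G)) this.eq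
    exact h2
  rw [hk', ← hrange, ← Subgroup.index_ker, Subgroup.card_mul_index]

theorem card_class_sylow (x : (S : Subgroup G)) (hx : x ∉ Subgroup.center (S : Subgroup G)) :
    Nat.card (Subgroup.centralizer ({x} : Set (S : Subgroup G))) = 16 := by
  have h4 : Nat.card {y : (S : Subgroup G) // IsConj y x} = 4 := by
    refine Eq.trans (Nat.card_congr
      { toFun := fun y => ⟨x⁻¹ * y.1, by
          obtain ⟨r, hr⟩ := isConj_iff.1 y.2.symm
          rw [← hr]; exact h.grp.conj_coset⟩
        invFun := fun z => ⟨x * z.1, by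
          obtain ⟨r, hr⟩ := h.grp.coset x hx z.1 z.2
          exact (isConj_iff.2 ⟨r, hr⟩).symm⟩
        left_inv := fun y => Subtype.ext (mul_inv_cancel_left _ _)
        right_inv := fun z => Subtype.ext (inv_mul_cancel_left _ _) }) h.grp.centre
  rw [CfsgLib.Char.card_isConj_eq_index] at h4
  have := (Subgroup.centralizer ({x} : Set (S : Subgroup G))).card_mul_index
  rw [h4, h.grp.card] at this
  omega

theorem card_conj_inter (x : (S : Subgroup G)) (hx : x ∉ Subgroup.center (S : Subgroup G)) :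
    (Finset.univ.filter fun y : (S : Subgroup G) => IsConj (x : G) (y : G)).card = 12 := by
  rw [← Fintype.card_subtype, ← Nat.card_eq_fintype_card]
  have hrx : ∀ r z : (S : Subgroup G), z ∈ Subgroup.center (S : Subgroup G) →
      h.rot z ∈ Subgroup.center (S : Subgroup G) := fun r z hz => h.rot_center.2 hz
  let q : Fin 3 → (S : Subgroup G) := ![x, h.rot x, h.rot (h.rot x)]
  have hq : ∀ i, q i ∉ Subgroup.center (S : Subgroup G) := fun i => by
    fin_cases i <;> simp [q, h.rot_center, hx]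
  have hqc : ∀ i, IsConj (x : G) (q i : G) := fun i => by
    fin_cases i
    · exact IsConj.refl _
    · exact isConj_iff.2 ⟨n, rfl⟩
    · exact isConj_iff.2 ⟨n * n, by simp [q, rot_coe, mul_assoc]⟩
  have hqq : ∀ i z, z ∈ Subgroup.center (S : Subgroup G) → IsConj (q i : G) ((q i * z : (S : Subgroup G)) : G) :=
    fun i z hz => by
    obtain ⟨r, hr⟩ := h.grp.coset (q i) (hq i) z hz
    exact isConj_iff.2 ⟨r, congrArg Subtype.val hr⟩
  let Φ : Fin 3 × Subgroup.center (S : Subgroup G) → {y : (S : Subgroup G) // IsConj (x : G) (y : G)} :=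
    fun p => ⟨q p.1 * p.2, (hqc p.1).trans (hqq p.1 p.2 p.2.2)⟩
  have hΦ : Function.Bijective Φ := by
    constructor
    · rintro ⟨i, z⟩ ⟨j, w⟩ e
      have e' : q i * (z : (S : Subgroup G)) = q j * w := congrArg Subtype.val e
      have hd : (q i)⁻¹ * q j ∈ Subgroup.center (S : Subgroup G) := by
        have : (q i)⁻¹ * q j = (z : (S : Subgroup G)) * (w : (S : Subgroup G))⁻¹ := by
          rw [inv_mul_eq_iff_eq_mul, ← mul_assoc, e', mul_inv_cancel_right]
        rw [this]; exact mul_mem z.2 (inv_mem w.2)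
      obtain rfl : i = j := by
        have n1 : x⁻¹ * h.rot x ∉ Subgroup.center (S : Subgroup G) := h.rot_ne hx
        have n2 : (h.rot x)⁻¹ * h.rot (h.rot x) ∉ Subgroup.center (S : Subgroup G) := by
          rw [← map_inv, ← map_mul, h.rot_center]; exact n1
        have n3 : x⁻¹ * h.rot (h.rot x) ∉ Subgroup.center (S : Subgroup G) := by
          intro hc
          obtain ⟨r, hr⟩ := h.rot_cube x
          have h3 := h.rot_center.2 hc
          rw [map_mul, map_inv, hr] at h3
          have h4 : x⁻¹ * h.rot x ∈ Subgroup.center (S : Subgroup G) := by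
            have h5 := mul_mem (h.grp.conj_coset (x := x) (r := r)) (inv_mem h3)
            rwa [show x⁻¹ * (r * x * r⁻¹) * ((h.rot x)⁻¹ * (r * x * r⁻¹))⁻¹ = x⁻¹ * h.rot x by group] at h5
          exact n1 h4
        have inv' : ∀ a b : (S : Subgroup G), a⁻¹ * b ∉ Subgroup.center (S : Subgroup G) →
            b⁻¹ * a ∉ Subgroup.center (S : Subgroup G) := fun a b hab hc =>
          hab (by simpa using inv_mem hc)
        fin_cases i <;> fin_cases j <;> simp only [q] at hd <;> first
          | rfl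
          | exact absurd hd n1 | exact absurd hd (inv' _ _ n1)
          | exact absurd hd n2 | exact absurd hd (inv' _ _ n2)
          | exact absurd hd n3 | exact absurd hd (inv' _ _ n3)
      exact Prod.ext rfl (Subtype.ext (mul_left_cancel e'))
    · rintro ⟨y, hy⟩
      obtain ⟨g, hg⟩ := isConj_iff.1 hy
      obtain ⟨r, hr⟩ := h.fus (g := g) (x := x) (fun e => hx ((mem_zed x.2).1 e)) (by rw [hg]; exact y.2)
      rw [show (⟨g * (x : G) * g⁻¹, by rw [hg]; exact y.2⟩ : (S : Subgroup G)) = y from Subtype.ext hg] at hr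
      have hc : r * x * r⁻¹ = x * (x⁻¹ * (r * x * r⁻¹)) := (mul_inv_cancel_left _ _).symm
      have hz := h.grp.conj_coset (x := x) (r := r)
      rcases hr with e | e | e <;> rw [hc] at e
      · exact ⟨(0, ⟨_, hz⟩), Subtype.ext e.symm⟩
      · rw [map_mul] at e
        exact ⟨(1, ⟨_, h.rot_center.2 hz⟩), Subtype.ext e.symm⟩
      · rw [map_mul, map_mul] at e
        exact ⟨(2, ⟨_, h.rot_center.2 (h.rot_center.2 hz)⟩), Subtype.ext e.symm⟩
  rw [← Nat.card_congr (Equiv.ofBijective Φ hΦ), Nat.card_prod, h.grp.centre, Nat.card_fin]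

/-- The inner product of a function of the 2-part vanishing on the centre. -/
theorem classInner_sFun {f : G → ℂ} (hf : FInv S f)
    (hfz : ∀ t ∈ zed S, f t = 0) {Ψ : G → ℂ} (hΨ : IsClassFunction G Ψ)
    (hconst : ∀ z : G, (∃ k, orderOf z = 2 ^ k) → z ≠ 1 →
      ∀ s : Subgroup.centralizer ({z} : Set G), IsPRegular 2 s → Ψ (z * (s : G)) = Ψ z) :
    classInner (sFun S f) Ψ * 192 = ∑ x : (S : Subgroup G), f x * conj (Ψ x) := by
  set Φ : G → ℂ := fun g => sFun S f g * conj (Ψ g) with hΦ
  have hΦc : IsClassFunction G Φ := fun x g => by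
    simp only [Φ, sFun_isClassFunction hf x g, hΨ x g]
  set T := Finset.univ.filter (fun z : G => ∃ k, orderOf z = 2 ^ k) with hT
  have hB : (Nat.card G : ℂ) * ∑ x : (S : Subgroup G), Φ x = ∑ z ∈ T, Φ z * 192 * regCard z := by
    have e : ∀ x : (S : Subgroup G), (Nat.card G : ℂ) * Φ x
        = ∑ z ∈ T, ((Finset.univ.filter fun g : G => g * (x : G) * g⁻¹ = z).card : ℂ) * Φ z := by
      intro x
      obtain ⟨k, hk⟩ := IsPGroup.iff_orderOf.mp S.2 x
      calc (Nat.card G : ℂ) * Φ x = ∑ g : G, Φ (g * (x : G) * g⁻¹) := by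
            rw [Finset.sum_congr rfl fun g _ => hΦc (x : G) g, Finset.sum_const, Finset.card_univ,
              Fintype.card_eq_nat_card, nsmul_eq_mul]
        _ = _ := by
            rw [← Finset.sum_fiberwise_of_maps_to (g := fun g : G => g * (x : G) * g⁻¹) (t := T)
              (fun g _ => Finset.mem_filter.2 ⟨Finset.mem_univ _, k, by
                rw [orderOf_conj', Subgroup.orderOf_coe, hk]⟩)]
            refine Finset.sum_congr rfl fun z _ => ?_
            rw [Finset.sum_congr rfl (g := fun _ => Φ z) fun g hg => by rw [(Finset.mem_filter.1 hg).2],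
              Finset.sum_const, nsmul_eq_mul]
    rw [Finset.mul_sum, Finset.sum_congr rfl fun x _ => e x, Finset.sum_comm]
    refine Finset.sum_congr rfl fun z hz => ?_
    rw [← Finset.sum_mul]
    obtain ⟨k, hk⟩ := (Finset.mem_filter.1 hz).2
    obtain ⟨u, hu⟩ := exists_conj_mem_sylow S (R := Subgroup.zpowers z)
      (IsPGroup.of_card (n := k) (by rw [Nat.card_zpowers, hk]))
    have hx0 := hu z (Subgroup.mem_zpowers z)
    by_cases hzed : u * z * u⁻¹ ∈ zed S
    · have : Φ z = 0 := by simp only [Φ, sFun_two hf hk hx0, hfz _ hzed, zero_mul]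
      rw [this]; ring
    set x₀ : (S : Subgroup G) := ⟨_, hx0⟩
    have hx0c : x₀ ∉ Subgroup.center (S : Subgroup G) := fun e => hzed ((mem_zed hx0).2 e)
    have hne : x₀ ≠ 1 := fun e => hx0c (by rw [e]; exact one_mem _)
    have hc : IsConj z (x₀ : G) := isConj_iff.2 ⟨u, rfl⟩
    have hCz : Nat.card (Subgroup.centralizer ({z} : Set G)) =
        Nat.card (Subgroup.centralizer ({(x₀ : G)} : Set G)) := by
      refine Nat.card_congr ((MulAut.conj u).toEquiv.subtypeEquiv fun c => ?_)
      rw [Subgroup.mem_centralizer_singleton_iff, Subgroup.mem_centralizer_singleton_iff]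
      show c * z = z * c ↔ u * c * u⁻¹ * (u * z * u⁻¹) = u * z * u⁻¹ * (u * c * u⁻¹)
      rw [show u * c * u⁻¹ * (u * z * u⁻¹) = u * (c * z) * u⁻¹ by group,
        show u * z * u⁻¹ * (u * c * u⁻¹) = u * (z * c) * u⁻¹ by group, mul_left_inj, mul_right_inj]
    have hcnt : ((∑ x : (S : Subgroup G), (Finset.univ.filter fun g : G => g * (x : G) * g⁻¹ = z).card : ℕ) : ℂ)
        = ((12 * Nat.card (Subgroup.centralizer ({z} : Set G)) : ℕ) : ℂ) := by
      congr 1
      rw [Finset.sum_congr rfl fun (x : (S : Subgroup G)) _ => card_filter_conj (x : G) z, Finset.sum_ite,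
        Finset.sum_const_zero, add_zero, Finset.sum_const, smul_eq_mul]
      congr 1
      rw [← h.card_conj_inter x₀ hx0c]
      refine congrArg Finset.card (Finset.filter_congr fun y _ => ?_)
      exact ⟨fun e => (e.trans hc).symm, fun e => e.symm.trans hc.symm⟩
    push_cast at hcnt
    rw [hcnt, hCz, ← h.regCard_mul x₀ hne, h.card_class_sylow x₀ hx0c,
      h.regCard_conj (z := z) (u := u)]
    push_cast
    ring
  have hA : ∑ g : G, Φ g = ∑ z ∈ T, Φ z * regCard z :=
    sum_sections hf (hfz 1 (one_mem _)) hconst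
  have hΦS : ∀ x : (S : Subgroup G), Φ x = f x * conj (Ψ x) := fun x => by
    simp only [Φ, sFun_coe hf]
  rw [Cfsg.classInner, show ∑ g : G, sFun S f g * conj (Ψ g) = ∑ g : G, Φ g from rfl, hA,
    ← Finset.sum_congr rfl fun x _ => hΦS x, mul_assoc, inv_mul_eq_iff_eq_mul₀ CfsgLib.Char.card_ne_zero,
    hB, Finset.sum_mul]
  exact Finset.sum_congr rfl fun z _ => by ring

variable {p : ℕ} {M : Ideal AlgInt} (hM : IsPModular 2 M)
include hM

theorem apply_section {χ : IrrCharacter G} (hχ : χ ∈ principalBlock M G) {z : G}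
    (hz : ∃ k, orderOf z = 2 ^ k) (hz1 : z ≠ 1) (s : Subgroup.centralizer ({z} : Set G))
    (hs : IsPRegular 2 s) : (χ : G → ℂ) (z * (s : G)) = (χ : G → ℂ) z := by
  haveI : Fact (Nat.Prime 2) := ⟨Nat.prime_two⟩
  obtain ⟨k, hk⟩ := hz
  exact SectionSums.apply_section hM hχ ⟨k, hk⟩ (h.npc_centralizer hk hz1)
    (Subgroup.mem_centralizer_singleton_iff.1 s.2) (by rw [Subgroup.orderOf_coe]; exact hs)

theorem classInner_sFun_eq_zero {f : G → ℂ} (hf : FInv S f) (hf1 : f 1 = 0) {χ : IrrCharacter G}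
    (hχ : χ ∉ principalBlock M G) : classInner (sFun S f) (χ : G → ℂ) = 0 := by
  haveI : Fact (Nat.Prime 2) := ⟨Nat.prime_two⟩
  rw [Cfsg.classInner, ← Finset.sum_fiberwise_of_maps_to (g := twoPart)
    (t := Finset.univ.filter fun z : G => ∃ k, orderOf z = 2 ^ k)
    (fun g _ => Finset.mem_filter.2 ⟨Finset.mem_univ _, twoPart_pow g⟩), Finset.sum_eq_zero, mul_zero]
  intro z hz
  obtain ⟨k, hk⟩ := (Finset.mem_filter.1 hz).2
  rw [sum_fiber _ hk]
  by_cases hz1 : z = 1
  · subst hz1
    refine Finset.sum_eq_zero fun s hs => ?_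
    rw [one_mul, sFun_of_odd hf (by rw [Subgroup.orderOf_coe]; exact (Finset.mem_filter.1 hs).2), hf1,
      zero_mul]
  refine (Finset.sum_congr rfl fun s hs => by
    rw [sFun_section hf hk s (Finset.mem_filter.1 hs).2]).trans ?_
  rw [← Finset.mul_sum, ← map_sum, SectionSums.sum_section_eq_zero hM hχ ⟨k, hk⟩, map_zero, mul_zero]

end Rotation

end CfsgLib.Involution.AllNilpotent
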