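import Cfsg.Agent.Lib.Involution.AllNilpotent.Setting
import Cfsg.Agent.Lib.BrauerSuzuki.HomocyclicMain

/-!
# Linear characters of a 2-group of type `U₃(4)` and the rotation
-/

set_option autoImplicit false
set_option linter.style.haveILetI false
set_option linter.unusedSectionVars false

namespace CfsgLib.Involution.AllNilpotent

open Cfsg CfsgLib.BrauerSuzuki
open scoped _root_.Classical ComplexConjugate commutatorElement

section Group

variable {P : Type*} [Group P] [Fintype P] (h : U34Group P)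
include h

theorem U34Group.hom_center (μ : P →* ℂˣ) {x : P} (hx : x ∈ Subgroup.center P) : μ x = 1 :=
  MonoidHom.mem_ker.1 (Abelianization.commutator_subset_ker μ (h.derived ▸ hx))

theorem U34Group.hom_sq (μ : P →* ℂˣ) (x : P) : μ x * μ x = 1 := by
  rw [← sq, ← map_pow, h.hom_center μ (h.square x)]

theorem U34Group.hom_inv (μ : P →* ℂˣ) : μ⁻¹ = μ := MonoidHom.ext fun x =>
  inv_eq_of_mul_eq_one_right (h.hom_sq μ x)

theorem U34Group.conj_hom (μ : P →* ℂˣ) (x : P) : conj (μ x : ℂ) = (μ x : ℂ) := by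
  have e : (μ x : ℂ) * (μ x : ℂ) = 1 := by rw [← Units.val_mul, h.hom_sq, Units.val_one]
  rcases mul_self_eq_one_iff.1 e with e | e <;> simp [e]

theorem U34Group.card_abelianization : Nat.card (Abelianization P) = 16 := by
  have h1 := Subgroup.card_eq_card_quotient_mul_card_subgroup (commutator P)
  have h2 : Nat.card (P ⧸ commutator P) * 4 = 64 := by
    rw [← h.card, h1, h.derived, h.centre]
  show Nat.card (P ⧸ commutator P) = 16
  omega

theorem U34Group.finite_dual : Finite (P →* ℂˣ) := by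
  haveI : Finite (Abelianization P →* ℂˣ) := Finite.of_equiv _
    (CommGroup.monoidHom_mulEquiv_of_hasEnoughRootsOfUnity (Abelianization P) ℂ).some.toEquiv.symm
  exact Finite.of_equiv _ Abelianization.lift.symm

theorem U34Group.card_dual : Nat.card (P →* ℂˣ) = 16 := by
  rw [Nat.card_congr Abelianization.lift, CommGroup.card_monoidHom_of_hasEnoughRootsOfUnity,
    h.card_abelianization]

theorem U34Group.sum_hom (μ : P →* ℂˣ) :
    ∑ x : P, (μ x : ℂ) = if μ = 1 then (64 : ℂ) else 0 := by
  split_ifs with h1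
  · subst h1
    simp [← Nat.card_eq_fintype_card, h.card]
  · exact sum_hom_units_eq_zero ((Units.coeHom ℂ).comp μ) fun e => h1 (by
      ext x; exact DFunLike.congr_fun e x)

theorem U34Group.sum_dual [Fintype (P →* ℂˣ)] (x : P) :
    ∑ μ : P →* ℂˣ, (μ x : ℂ) = if x ∈ Subgroup.center P then (16 : ℂ) else 0 := by
  split_ifs with h1
  · simp only [fun μ => h.hom_center μ h1, Units.val_one, Finset.sum_const, Finset.card_univ,
      nsmul_eq_mul, mul_one, ← Nat.card_eq_fintype_card, h.card_dual]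
    norm_num
  · obtain ⟨φ, hφ⟩ := CommGroup.exists_apply_ne_one_of_hasEnoughRootsOfUnity (Abelianization P) ℂ
      (a := Abelianization.of x) (fun e => h1 (by
        rw [← h.derived, ← Abelianization.ker_of]; exact MonoidHom.mem_ker.2 e))
    exact sum_hom_units_eq_zero
      ((Units.coeHom ℂ).comp ((Pi.evalMonoidHom (fun _ : P => ℂˣ) x).comp (MonoidHom.coeFn P ℂˣ)))
      fun e => hφ (Units.ext (DFunLike.congr_fun e (φ.comp Abelianization.of)))

/-- Conjugate elements outside the centre fill the coset of the centre. -/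
theorem U34Group.conj_coset {x r : P} : x⁻¹ * (r * x * r⁻¹) ∈ Subgroup.center P := by
  rw [← h.derived]
  have : x⁻¹ * (r * x * r⁻¹) = ⁅x⁻¹, r⁆ := by rw [commutatorElement_def]; group
  rw [this]
  exact Subgroup.commutator_mem_commutator (Subgroup.mem_top _) (Subgroup.mem_top _)

/-- A function constant on the classes is recovered outside the centre from its linear part. -/
theorem U34Group.expand [Fintype (P →* ℂˣ)] (φ : P → ℂ) (hφ : ∀ r x, φ (r * x * r⁻¹) = φ x) {x₀ : P}
    (hx₀ : x₀ ∉ Subgroup.center P) :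
    ∑ μ : P →* ℂˣ, (∑ x : P, φ x * (μ x : ℂ)) * (μ x₀ : ℂ) = 64 * φ x₀ := by
  simp only [Finset.sum_mul]
  rw [Finset.sum_comm]
  have e : ∀ x : P, ∑ μ : P →* ℂˣ, φ x * (μ x : ℂ) * (μ x₀ : ℂ) =
      if x * x₀ ∈ Subgroup.center P then φ x * 16 else 0 := fun x => by
    simp only [mul_assoc, ← Finset.mul_sum, ← Units.val_mul, ← map_mul]
    rw [h.sum_dual]
    split_ifs <;> simp
  rw [Finset.sum_congr rfl fun x _ => e x, ← Finset.sum_filter]
  have hval : ∀ x ∈ (Finset.univ.filter fun x : P => x * x₀ ∈ Subgroup.center P), φ x = φ x₀ := by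
    intro x hx
    have hx' := (Finset.mem_filter.1 hx).2
    obtain ⟨r, hr⟩ := h.coset x₀ hx₀ (x₀⁻¹ * x) (by
      have h2 : x₀⁻¹ * x = (x₀ ^ 2)⁻¹ * (x₀ * (x * x₀) * x₀⁻¹) := by group
      rw [h2]
      exact mul_mem (inv_mem (h.square x₀)) (by
        rw [Subgroup.mem_center_iff.1 hx' x₀, mul_inv_cancel_right]; exact hx'))
    rw [← mul_inv_cancel_left x₀ x, ← hr, hφ]
  rw [Finset.sum_congr rfl fun x hx => by rw [hval x hx], Finset.sum_const, nsmul_eq_mul]
  have hc : (Finset.univ.filter fun x : P => x * x₀ ∈ Subgroup.center P).card = 4 := by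
    rw [← Fintype.card_subtype, ← Nat.card_eq_fintype_card]
    refine Eq.trans (Nat.card_congr ((Equiv.mulRight x₀).subtypeEquiv fun x => ?_)) h.centre
    rfl
  rw [hc]
  ring

end Group

namespace Rotation

variable {G : Type*} [Group G] [Fintype G] {S : Sylow 2 G} {n : G} (h : Rotation S n)
include h

/-- The rotation on linear characters. -/
noncomputable def turn (μ : (S : Subgroup G) →* ℂˣ) : (S : Subgroup G) →* ℂˣ := μ.comp h.rot

/-- An orbit of the rotation. -/
noncomputable def orb (μ : (S : Subgroup G) →* ℂˣ) : Fin 3 → ((S : Subgroup G) →* ℂˣ) :=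
  ![μ, h.turn μ, h.turn (h.turn μ)]

/-- Two characters in one orbit. -/
def Rel (μ ν : (S : Subgroup G) →* ℂˣ) : Prop := ∃ i, h.orb μ i = ν

theorem hom_conj (μ : (S : Subgroup G) →* ℂˣ) (r x : (S : Subgroup G)) :
    μ (r * x * r⁻¹) = μ x := by
  rw [map_mul, map_mul, map_inv, mul_comm (μ r), mul_inv_cancel_right]

theorem turn_cube (μ : (S : Subgroup G) →* ℂˣ) : h.turn (h.turn (h.turn μ)) = μ := by
  ext x
  obtain ⟨r, hr⟩ := h.rot_cube x
  show ((μ (h.rot (h.rot (h.rot x))) : ℂˣ) : ℂ) = _
  rw [hr, h.hom_conj]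

theorem rot_center {x : (S : Subgroup G)} :
    h.rot x ∈ Subgroup.center (S : Subgroup G) ↔ x ∈ Subgroup.center (S : Subgroup G) := by
  rw [← h.grp.invol, ← h.grp.invol, ← map_pow, map_eq_one_iff]
  intro a b e
  have := congrArg Subtype.val e
  rw [rot_coe, rot_coe] at this
  exact Subtype.ext (mul_left_cancel (mul_right_cancel this))

theorem turn_fixed {μ : (S : Subgroup G) →* ℂˣ} (e : h.turn μ = μ) : μ = 1 := by
  ext x
  have e1 : μ (h.rot x) = μ x := DFunLike.congr_fun e x
  have e2 : μ (h.rot (h.rot x)) = μ x := (DFunLike.congr_fun e (h.rot x)).trans e1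
  set y := x * h.rot x * h.rot (h.rot x) with hy
  have hyc : y ∈ Subgroup.center (S : Subgroup G) := by
    by_contra hc
    refine h.rot_ne hc ?_
    obtain ⟨r, hr⟩ := h.rot_cube x
    rw [← h.grp.derived, ← Abelianization.ker_of, MonoidHom.mem_ker, map_mul, map_inv,
      inv_mul_eq_one, hy]
    simp only [map_mul, hr, map_inv]
    rw [mul_comm (Abelianization.of r) (Abelianization.of x), mul_inv_cancel_right]
    ac_rfl
  have e3 : μ x * μ x * μ x = 1 := by
    have := h.grp.hom_center μ hyc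
    rwa [hy, map_mul, map_mul, e2, e1] at this
  rw [h.grp.hom_sq, one_mul] at e3
  rw [e3]
  rfl

theorem orb_injective {μ : (S : Subgroup G) →* ℂˣ} (hμ : μ ≠ 1) : Function.Injective (h.orb μ) := by
  intro i j e
  have d1 : h.turn μ ≠ μ := fun e' => hμ (h.turn_fixed e')
  have d2 : h.turn (h.turn μ) ≠ μ := fun e' => d1 (by
    have := congrArg h.turn e'
    rw [h.turn_cube] at this
    exact this.symm)
  have d3 : h.turn (h.turn μ) ≠ h.turn μ := fun e' => d1 (by
    simpa [h.turn_cube] using congrArg (h.turn ∘ h.turn) e')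
  fin_cases i <;> fin_cases j <;> first
    | rfl
    | exact absurd e d1 | exact absurd e.symm d1
    | exact absurd e d2 | exact absurd e.symm d2
    | exact absurd e d3 | exact absurd e.symm d3

theorem rel_of_eq {μ ν : (S : Subgroup G) →* ℂˣ} {i j : Fin 3} (e : h.orb μ i = h.orb ν j) :
    h.Rel μ ν := by
  fin_cases i <;> fin_cases j <;> simp only [orb] at e
  all_goals first
    | exact ⟨0, e⟩
    | exact ⟨1, e⟩
    | exact ⟨2, e⟩
    | exact ⟨0, by simpa [orb, h.turn_cube] using congrArg h.turn e⟩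
    | exact ⟨1, by simpa [orb, h.turn_cube] using congrArg h.turn e⟩
    | exact ⟨2, by simpa [orb, h.turn_cube] using congrArg h.turn e⟩
    | exact ⟨0, by simpa [orb, h.turn_cube] using congrArg (h.turn ∘ h.turn) e⟩
    | exact ⟨1, by simpa [orb, h.turn_cube] using congrArg (h.turn ∘ h.turn) e⟩
    | exact ⟨2, by simpa [orb, h.turn_cube] using congrArg (h.turn ∘ h.turn) e⟩

theorem orb_ne_one {μ : (S : Subgroup G) →* ℂˣ} (hμ : μ ≠ 1) (i : Fin 3) : h.orb μ i ≠ 1 := by
  intro e
  have hT : h.turn 1 = 1 := rfl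
  refine hμ ?_
  fin_cases i <;> simp only [orb] at e
  · exact e
  · have e' : h.turn (h.turn (h.turn μ)) = h.turn (h.turn 1) := congrArg (fun ν => h.turn (h.turn ν)) e
    rwa [h.turn_cube, hT, hT] at e'
  · have e' : h.turn (h.turn (h.turn μ)) = h.turn 1 := congrArg h.turn e
    rwa [h.turn_cube, hT] at e'

/-- There is a character outside four given orbits. -/
theorem exists_fifth (a b c d : (S : Subgroup G) →* ℂˣ) :
    ∃ μ, μ ≠ 1 ∧ ¬ h.Rel a μ ∧ ¬ h.Rel b μ ∧ ¬ h.Rel c μ ∧ ¬ h.Rel d μ := by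
  haveI := h.grp.finite_dual
  letI := Fintype.ofFinite ((S : Subgroup G) →* ℂˣ)
  let bad : Finset ((S : Subgroup G) →* ℂˣ) := insert 1 ((Finset.univ.image (h.orb a) ∪
    Finset.univ.image (h.orb b)) ∪ (Finset.univ.image (h.orb c) ∪ Finset.univ.image (h.orb d)))
  have h3 : ∀ μ, (Finset.univ.image (h.orb μ)).card ≤ 3 := fun μ =>
    Finset.card_image_le.trans (by simp)
  have hb : bad.card ≤ 13 := by
    refine (Finset.card_insert_le _ _).trans ?_
    have := Finset.card_union_le (Finset.univ.image (h.orb a) ∪ Finset.univ.image (h.orb b))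
      (Finset.univ.image (h.orb c) ∪ Finset.univ.image (h.orb d))
    have := Finset.card_union_le (Finset.univ.image (h.orb a)) (Finset.univ.image (h.orb b))
    have := Finset.card_union_le (Finset.univ.image (h.orb c)) (Finset.univ.image (h.orb d))
    have := h3 a; have := h3 b; have := h3 c; have := h3 d
    omega
  obtain ⟨μ, -, hμ⟩ := Finset.exists_mem_notMem_of_card_lt_card (s := bad) (t := Finset.univ) (by
    rw [Finset.card_univ, Fintype.card_eq_nat_card, h.grp.card_dual]; omega)
  simp only [bad, Finset.mem_insert, Finset.mem_union, Finset.mem_image, Finset.mem_univ, true_and,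
    not_or] at hμ
  exact ⟨μ, hμ.1, hμ.2.1.1, hμ.2.1.2, hμ.2.2.1, hμ.2.2.2⟩

end Rotation

end CfsgLib.Involution.AllNilpotent
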