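import Cfsg.Agent.Lib.Involution.AllNilpotent.Count
import Cfsg.Agent.Lib.Char.DegPMinusE.Simple

/-!
# The functions `3 - ξ` and the principal block
-/

set_option autoImplicit false
set_option linter.style.haveILetI false
set_option linter.unusedSectionVars false

namespace CfsgLib.Involution.AllNilpotent

open Cfsg CfsgLib.BrauerSuzuki CfsgLib.Blocks
open CfsgLib.BrauerSuzuki.Homocyclic (twoPart FInv sFun sFun_eq sFun_coe sFun_of_odd sFun_isClassFunction
  gc_sFun regCard)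
open scoped _root_.Classical ComplexConjugate

namespace Rotation

variable {G : Type*} [Group G] [Fintype G] {S : Sylow 2 G} {n : G} (h : Rotation S n)
include h

/-- The sum over an orbit of linear characters. -/
noncomputable def xi (μ : (S : Subgroup G) →* ℂˣ) (x : (S : Subgroup G)) : ℂ :=
  ∑ i, (h.orb μ i x : ℂ)

/-- `3 - ξ` on `S`. -/
noncomputable def fn (μ : (S : Subgroup G) →* ℂˣ) : G → ℂ :=
  fun g => if hg : g ∈ (S : Subgroup G) then 3 - h.xi μ ⟨g, hg⟩ else 0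

theorem fn_coe (μ : (S : Subgroup G) →* ℂˣ) (x : (S : Subgroup G)) : h.fn μ x = 3 - h.xi μ x := by
  simp [fn]

theorem xi_rot (μ : (S : Subgroup G) →* ℂˣ) (x : (S : Subgroup G)) :
    h.xi μ (h.rot x) = h.xi μ x := by
  have e : ∀ ν, (ν (h.rot x) : ℂ) = (h.turn ν x : ℂ) := fun ν => rfl
  simp only [xi, Fin.sum_univ_three, orb, Matrix.cons_val_zero, Matrix.cons_val_one, Matrix.cons_val_two,
    Matrix.tail_cons, Matrix.head_cons, e, h.turn_cube]
  ring

theorem xi_conj (μ : (S : Subgroup G) →* ℂˣ) (r x : (S : Subgroup G)) :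
    h.xi μ (r * x * r⁻¹) = h.xi μ x := by
  simp only [xi, h.hom_conj]

theorem xi_center (μ : (S : Subgroup G) →* ℂˣ) {x : (S : Subgroup G)}
    (hx : x ∈ Subgroup.center (S : Subgroup G)) : h.xi μ x = 3 := by
  simp [xi, h.grp.hom_center _ hx]

theorem fn_zed (μ : (S : Subgroup G) →* ℂˣ) : ∀ t ∈ zed S, h.fn μ t = 0 := fun t ht => by
  rw [show h.fn μ t = h.fn μ ((⟨t, h.zed_le ht⟩ : (S : Subgroup G)) : G) from rfl, h.fn_coe,
    h.xi_center μ ((mem_zed _).1 ht), sub_self]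

theorem fn_inv (μ : (S : Subgroup G) →* ℂˣ) : FInv S (h.fn μ) := by
  intro g x hx hgx
  by_cases hxz : x ∈ zed S
  · have hz : g * x * g⁻¹ ∈ zed S := by
      by_cases hx1 : x = 1
      · subst hx1; simp
      · exact h.mem_zed_of_orderOf hgx ((orderOf_conj' g x).trans (h.orderOf_zed hxz hx1))
    rw [h.fn_zed μ _ hxz, h.fn_zed μ _ hz]
  obtain ⟨r, hr⟩ := h.fus (g := g) (x := ⟨x, hx⟩) hxz hgx
  rw [show h.fn μ (g * x * g⁻¹) = h.fn μ ((⟨_, hgx⟩ : (S : Subgroup G)) : G) from rfl, h.fn_coe,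
    show h.fn μ x = h.fn μ ((⟨x, hx⟩ : (S : Subgroup G)) : G) from rfl, h.fn_coe]
  rcases hr with e | e | e <;> simp only [e, h.xi_rot, h.xi_conj]

/-- The class function of `G`. -/
noncomputable def big (μ : (S : Subgroup G) →* ℂˣ) : G → ℂ := sFun S (h.fn μ)

theorem gc_big (μ : (S : Subgroup G) →* ℂˣ) : IsGeneralizedCharacter G (h.big μ) := by
  refine gc_sFun (h.fn_inv μ) ?_
  have e : (fun x : (S : Subgroup G) => h.fn μ x) = 3 • (fun _ : (S : Subgroup G) => (1 : ℂ)) -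
      ((fun x => (h.orb μ 0 x : ℂ)) + (fun x => (h.orb μ 1 x : ℂ)) + fun x => (h.orb μ 2 x : ℂ)) := by
    funext x
    simp [h.fn_coe, xi, Fin.sum_univ_three]
  rw [e]
  exact gc_sub (gc_nsmul gc_one 3) (gc_add (gc_add
    (Char.IsCharacter.isGeneralizedCharacter (Char.isCharacter_hom _))
    (Char.IsCharacter.isGeneralizedCharacter (Char.isCharacter_hom _)))
    (Char.IsCharacter.isGeneralizedCharacter (Char.isCharacter_hom _)))

theorem big_one (μ : (S : Subgroup G) →* ℂˣ) : h.big μ 1 = 0 := by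
  rw [big, sFun_of_odd (h.fn_inv μ) (by rw [orderOf_one]; norm_num), h.fn_zed μ 1 (one_mem _)]

theorem sum_xi {μ : (S : Subgroup G) →* ℂˣ} (hμ : μ ≠ 1) : ∑ x, h.xi μ x = 0 := by
  simp only [xi]
  rw [Finset.sum_comm]
  exact Finset.sum_eq_zero fun i _ => by rw [h.grp.sum_hom, if_neg (h.orb_ne_one hμ i)]

theorem conj_xi (μ : (S : Subgroup G) →* ℂˣ) (x : (S : Subgroup G)) :
    conj (h.xi μ x) = h.xi μ x := by
  simp only [xi, map_sum, h.grp.conj_hom]

theorem sum_xi_mul (μ ν : (S : Subgroup G) →* ℂˣ) :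
    ∑ x, h.xi μ x * h.xi ν x = ∑ i, ∑ j, if h.orb μ i = h.orb ν j then (64 : ℂ) else 0 := by
  simp only [xi, Finset.sum_mul_sum]
  rw [Finset.sum_comm]
  refine Finset.sum_congr rfl fun i _ => ?_
  rw [Finset.sum_comm]
  refine Finset.sum_congr rfl fun j _ => ?_
  calc _ = ∑ x, ((h.orb μ i * h.orb ν j : (S : Subgroup G) →* ℂˣ) x : ℂ) :=
        Finset.sum_congr rfl fun x _ => by rw [MonoidHom.mul_apply, Units.val_mul]
    _ = _ := by
        rw [h.grp.sum_hom]
        refine if_congr ⟨fun e => MonoidHom.ext fun x => ?_, fun e => MonoidHom.ext fun x => ?_⟩ rfl rfl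
        · have e1 : h.orb μ i x * h.orb ν j x = 1 := DFunLike.congr_fun e x
          exact mul_right_cancel (e1.trans (h.grp.hom_sq (h.orb ν j) x).symm)
        · rw [e, MonoidHom.mul_apply, h.grp.hom_sq]; rfl

theorem big_section (μ : (S : Subgroup G) →* ℂˣ) (z : G) (hz : ∃ k, orderOf z = 2 ^ k) (_ : z ≠ 1)
    (s : Subgroup.centralizer ({z} : Set G)) (hs : IsPRegular 2 s) :
    h.big μ (z * (s : G)) = h.big μ z := by
  obtain ⟨k, hk⟩ := hz
  exact sFun_section (h.fn_inv μ) hk s hs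

theorem classInner_big {μ ν : (S : Subgroup G) →* ℂˣ} (hμ : μ ≠ 1) (hν : ν ≠ 1) :
    classInner (h.big μ) (h.big ν) * 192 =
      576 + ∑ i, ∑ j, if h.orb μ i = h.orb ν j then (64 : ℂ) else 0 := by
  simp only [big]
  rw [h.classInner_sFun (h.fn_inv μ) (h.fn_zed μ) (sFun_isClassFunction (h.fn_inv ν))
    (h.big_section ν)]
  simp only [sFun_coe (h.fn_inv ν), h.fn_coe, map_sub, map_ofNat, h.conj_xi]
  calc ∑ x, (3 - h.xi μ x) * (3 - h.xi ν x)
      = ∑ x : (S : Subgroup G), (9 : ℂ) - 3 * (∑ x, h.xi ν x) - 3 * ∑ x, h.xi μ x +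
          ∑ x, h.xi μ x * h.xi ν x := by
        simp only [Finset.mul_sum, ← Finset.sum_sub_distrib, ← Finset.sum_add_distrib]
        exact Finset.sum_congr rfl fun x _ => by ring
    _ = _ := by
        rw [h.sum_xi hμ, h.sum_xi hν, h.sum_xi_mul, Finset.sum_const, Finset.card_univ, nsmul_eq_mul,
          ← Nat.card_eq_fintype_card, h.grp.card]
        ring

theorem classInner_self {μ : (S : Subgroup G) →* ℂˣ} (hμ : μ ≠ 1) :
    classInner (h.big μ) (h.big μ) = 4 := by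
  refine mul_right_cancel₀ (by norm_num : (192 : ℂ) ≠ 0) ?_
  rw [h.classInner_big hμ hμ, Finset.sum_congr rfl (g := fun _ => (64 : ℂ)) fun i _ => by
    rw [Finset.sum_eq_single i (fun j _ hne => if_neg fun e => hne (h.orb_injective hμ e).symm)
      (fun hc => absurd (Finset.mem_univ i) hc), if_pos rfl]]
  simp only [Finset.sum_const, Finset.card_univ, Fintype.card_fin, nsmul_eq_mul]
  norm_num

theorem classInner_cross {μ ν : (S : Subgroup G) →* ℂˣ} (hμ : μ ≠ 1) (hν : ν ≠ 1)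
    (hR : ¬ h.Rel μ ν) : classInner (h.big μ) (h.big ν) = 3 := by
  refine mul_right_cancel₀ (by norm_num : (192 : ℂ) ≠ 0) ?_
  rw [h.classInner_big hμ hν, Finset.sum_eq_zero fun i _ =>
    Finset.sum_eq_zero fun j _ => if_neg fun e => hR (h.rel_of_eq e)]
  norm_num

/-- The coefficients. -/
noncomputable def cf (μ : (S : Subgroup G) →* ℂˣ) : IrrCharacter G → ℤ := coeff (h.big μ)

theorem cf_triv {μ : (S : Subgroup G) →* ℂˣ} (hμ : μ ≠ 1) : h.cf μ (trivChar G) = 1 := by
  have e := cast_coeff (h.gc_big μ) (trivChar G)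
  have e1 : classInner (h.big μ) (fun _ => 1) * 192 = ∑ x : (S : Subgroup G), h.fn μ x * conj 1 :=
    h.classInner_sFun (h.fn_inv μ) (h.fn_zed μ) (fun _ _ => rfl) (fun _ _ _ _ _ => rfl)
  simp only [h.fn_coe, map_one, mul_one, Finset.sum_sub_distrib, h.sum_xi hμ, sub_zero,
    Finset.sum_const, Finset.card_univ, nsmul_eq_mul, ← Nat.card_eq_fintype_card, h.grp.card] at e1
  rw [show classInner (h.big μ) ((trivChar G : IrrCharacter G) : G → ℂ) =
    classInner (h.big μ) (fun _ => 1) from rfl] at e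
  have e2 : (coeff (h.big μ) (trivChar G) : ℂ) * 192 = 1 * 192 := by rw [e, e1]; norm_num
  exact_mod_cast mul_right_cancel₀ (by norm_num : (192 : ℂ) ≠ 0) e2

theorem cf_one (χ : IrrCharacter G) : h.cf 1 χ = 0 := by
  have hT : h.turn 1 = 1 := rfl
  have hf : h.fn 1 = fun _ => 0 := by
    funext g
    simp [fn, xi, orb, hT, Fin.sum_univ_three]
    norm_num
  have hb : h.big 1 = fun _ => 0 := by funext g; simp [big, sFun, hf]
  have e : (h.cf 1 χ : ℂ) = ((0 : ℤ) : ℂ) := by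
    rw [show (h.cf 1 χ : ℂ) = _ from cast_coeff (h.gc_big 1) χ, hb]
    simp [Cfsg.classInner]
  exact_mod_cast e

variable {M : Ideal AlgInt} (hM : IsPModular 2 M)
include hM

theorem mem_block {μ : (S : Subgroup G) →* ℂˣ} {χ : IrrCharacter G} (hne : h.cf μ χ ≠ 0) :
    χ ∈ principalBlock M G := by
  by_contra hn
  refine hne ?_
  have e := cast_coeff (h.gc_big μ) χ
  rw [big, h.classInner_sFun_eq_zero hM (h.fn_inv μ) (h.fn_zed μ 1 (one_mem _)) hn] at e
  exact_mod_cast e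

theorem restrict_eq {χ : IrrCharacter G} (hχ : χ ∈ principalBlock M G) (μ : (S : Subgroup G) →* ℂˣ) :
    ∑ x : (S : Subgroup G), (1 - (μ x : ℂ)) * conj ((χ : G → ℂ) x) = 64 * h.cf μ χ := by
  have e := h.classInner_sFun (h.fn_inv μ) (h.fn_zed μ) (Char.IsIrrCharacter.isClassFunction χ.2)
    (fun z hz hz1 s hs => h.apply_section hM hχ hz hz1 s hs)
  rw [show classInner (sFun S (h.fn μ)) (χ : G → ℂ) = (h.cf μ χ : ℂ) from (cast_coeff (h.gc_big μ) χ).symm] at e
  have hre : ∀ ν : (S : Subgroup G) →* ℂˣ, ∑ x : (S : Subgroup G), (h.turn ν x : ℂ) * conj ((χ : G → ℂ) x)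
      = ∑ x : (S : Subgroup G), (ν x : ℂ) * conj ((χ : G → ℂ) x) := fun ν => by
    have hinj : Function.Injective h.rot := fun a b e => by
      have := congrArg Subtype.val e
      rw [rot_coe, rot_coe] at this
      exact Subtype.ext (mul_left_cancel (mul_right_cancel this))
    refine Fintype.sum_bijective h.rot ⟨hinj, Finite.surjective_of_injective hinj⟩ _ _ fun x => ?_
    show (ν (h.rot x) : ℂ) * _ = _
    rw [rot_coe, irr_conj_apply]
  simp only [h.fn_coe, xi, Fin.sum_univ_three, orb, Matrix.cons_val_zero, Matrix.cons_val_one,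
    Matrix.cons_val_two, Matrix.tail_cons, Matrix.head_cons, sub_mul, add_mul, Finset.sum_sub_distrib,
    Finset.sum_add_distrib, hre, ← Finset.mul_sum] at e
  simp only [sub_mul, one_mul, Finset.sum_sub_distrib]
  linear_combination -(1 / 3 : ℂ) * e

theorem value_eq [Fintype ((S : Subgroup G) →* ℂˣ)] {χ : IrrCharacter G}
    (hχ : χ ∈ principalBlock M G) {x₀ : (S : Subgroup G)}
    (hx₀ : x₀ ∉ Subgroup.center (S : Subgroup G)) :
    (χ : G → ℂ) x₀ = -∑ μ, (h.cf μ χ : ℂ) * (μ x₀ : ℂ) := by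
  have key := h.grp.expand (fun x : (S : Subgroup G) => conj ((χ : G → ℂ) x)) (fun r x => by
    simp only [Subgroup.coe_mul, Subgroup.coe_inv, irr_conj_apply]) hx₀
  set m := ∑ x : (S : Subgroup G), conj ((χ : G → ℂ) x)
  have e : ∀ μ : (S : Subgroup G) →* ℂˣ, ∑ x : (S : Subgroup G), conj ((χ : G → ℂ) x) * (μ x : ℂ) =
      m - 64 * h.cf μ χ := fun μ => by
    rw [← h.restrict_eq hM hχ μ]
    simp only [sub_mul, one_mul, Finset.sum_sub_distrib, mul_comm ((μ _ : ℂˣ) : ℂ)]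
    ring
  simp only [e, sub_mul, Finset.sum_sub_distrib, ← Finset.mul_sum, h.grp.sum_dual, if_neg hx₀,
    mul_zero, zero_sub, mul_assoc] at key
  have key' : conj ((χ : G → ℂ) x₀) = -∑ μ, (h.cf μ χ : ℂ) * (μ x₀ : ℂ) := by
    linear_combination -(1 / 64 : ℂ) * key
  rw [← Complex.conj_conj ((χ : G → ℂ) x₀), key', map_neg, map_sum]
  simp only [map_mul, map_intCast, h.grp.conj_hom]

end Rotation

end CfsgLib.Involution.AllNilpotent
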