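import Cfsg.Agent.Lib.Involution.AllNilpotent.Functions
import Cfsg.Agent.Lib.Involution.AllNilpotent.Arith
import Cfsg.Agent.Lib.SmallGroups.BlockDegrees

/-!
# No simple group with 2-nilpotent involution centralisers has a Sylow subgroup of type `U₃(4)`
-/

set_option autoImplicit false
set_option linter.style.haveILetI false
set_option linter.unusedSectionVars false
set_option maxHeartbeats 1000000

namespace CfsgLib.Involution.AllNilpotent

open Cfsg CfsgLib.BrauerSuzuki CfsgLib.Blocks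
open CfsgLib.BrauerSuzuki.Homocyclic (twoPart twoPart_spec twoPart_mul twoPart_conj twoPart_pow FInv sFun sFun_eq
  sFun_coe sFun_of_odd sFun_isClassFunction exists_conj_twoPart regCard)
open scoped _root_.Classical ComplexConjugate

namespace Rotation

variable {G : Type*} [Group G] [Fintype G] {S : Sylow 2 G} {n : G} (h : Rotation S n)
include h

/-- The two-part of a product of two involutions lies in a conjugate of the centre. -/
theorem twoPart_prod_mem {i j w : G} (hi : i * i = 1) (hj : j * j = 1)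
    (hw : w * twoPart (i * j) * w⁻¹ ∈ (S : Subgroup G)) :
    w * twoPart (i * j) * w⁻¹ ∈ zed S := by
  haveI : Fact (Nat.Prime 2) := ⟨Nat.prime_two⟩
  set g := i * j with hg
  set y := w * twoPart g * w⁻¹ with hy
  by_contra hne
  have hv := h.sq_mem hw
  have hv1 := h.sq_ne_one hw hne
  obtain ⟨i', hi'⟩ : ∃ x, x = w * i * w⁻¹ := ⟨_, rfl⟩
  obtain ⟨j', hj'⟩ : ∃ x, x = w * j * w⁻¹ := ⟨_, rfl⟩
  obtain ⟨g', hg'⟩ : ∃ x, x = w * g * w⁻¹ := ⟨_, rfl⟩
  have hg2 : g' = i' * j' := by rw [hg', hi', hj', hg]; group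
  have hi2 : i' * i' = 1 := by
    rw [hi', show w * i * w⁻¹ * (w * i * w⁻¹) = w * (i * i) * w⁻¹ by group, hi, mul_one, mul_inv_cancel]
  have hj2 : j' * j' = 1 := by
    rw [hj', show w * j * w⁻¹ * (w * j * w⁻¹) = w * (j * j) * w⁻¹ by group, hj, mul_one, mul_inv_cancel]
  have hii : i'⁻¹ = i' := inv_eq_of_mul_eq_one_right hi2
  have hjj : j'⁻¹ = j' := inv_eq_of_mul_eq_one_right hj2
  have hty : twoPart g' = y := by rw [hg', twoPart_conj]
  obtain ⟨v, he, hcv, ⟨k, hk⟩, hvo⟩ := twoPart_spec g'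
  rw [hty] at he hcv hk
  have hinvg : twoPart g'⁻¹ = y⁻¹ := by
    have := twoPart_mul (Commute.inv_inv hcv) (by rw [orderOf_inv, hk]) (by rwa [orderOf_inv])
    rwa [show y⁻¹ * v⁻¹ = g'⁻¹ by rw [← mul_inv_rev, ← hcv.eq, he]] at this
  have hiy : i' * y * i'⁻¹ = y⁻¹ := by
    rw [← hty, ← twoPart_conj, show i' * g' * i'⁻¹ = g'⁻¹ by
      rw [hg2, mul_inv_rev, hii, hjj, ← mul_assoc i' i', hi2, one_mul], hinvg, hty]
  have hy4 : (y ^ 2)⁻¹ = y ^ 2 := inv_eq_of_mul_eq_one_right (by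
    rw [← sq]
    have e := pow_orderOf_eq_one (y ^ 2)
    rwa [h.orderOf_zed hv hv1] at e)
  have hic : i' * y ^ 2 = y ^ 2 * i' := by
    refine mul_inv_eq_iff_eq_mul.1 ?_
    rw [← conj_pow, hiy, inv_pow, hy4]
  have hgy : Commute g' y := by rw [← he]; exact (Commute.refl y).mul_left hcv.symm
  have hjc : j' * y ^ 2 = y ^ 2 * j' := by
    rw [show j' = i' * g' by rw [hg2, ← mul_assoc, hi2, one_mul]]
    exact ((show Commute i' (y ^ 2) from hic).mul_left (hgy.pow_right 2)).eq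
  have hSC := h.sylow_le_centralizer hv
  obtain ⟨π, hπ, -⟩ := exists_retraction (h.npc _ (h.orderOf_zed hv hv1)) (S.subtype hSC)
  set C := Subgroup.centralizer ({y ^ 2} : Set G)
  have hvC : v ∈ C := Subgroup.mem_centralizer_singleton_iff.2 ((hcv.symm.pow_right 2).eq)
  have hyC : y ∈ C := hSC hw
  have key : ∀ c : C, c * c = 1 →
      (⟨((π c : (S.subtype hSC : Subgroup C)) : C), Subgroup.mem_subgroupOf.1 (π c).2⟩ : (S : Subgroup G)) ∈
        Subgroup.center (S : Subgroup G) := fun c hc => by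
    rw [← h.grp.invol]
    refine Subtype.ext ?_
    have h2 := congrArg (fun q : (S.subtype hSC : Subgroup C) => ((q : C) : G)) (congrArg π hc)
    simp only [map_mul, map_one, Subgroup.coe_mul, Subgroup.coe_one] at h2
    rw [Subgroup.coe_pow, sq]
    exact h2
  have hmv : π ⟨v, hvC⟩ = 1 := by
    obtain ⟨l, hl⟩ := IsPGroup.iff_orderOf.mp (S.subtype hSC).2 (π ⟨v, hvC⟩)
    by_contra h0
    have hl0 : l ≠ 0 := fun e => h0 (orderOf_eq_one_iff.mp (by rw [hl, e, pow_zero]))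
    refine hvo (((dvd_pow_self 2 hl0).trans (dvd_of_eq hl.symm)).trans ((orderOf_map_dvd π _).trans ?_))
    rw [Subgroup.orderOf_mk]
  set ci : C := ⟨i', Subgroup.mem_centralizer_singleton_iff.2 hic⟩
  set cj : C := ⟨j', Subgroup.mem_centralizer_singleton_iff.2 hjc⟩
  have hprod : ci * cj = ⟨y, hyC⟩ * ⟨v, hvC⟩ := Subtype.ext (by
    show i' * j' = y * v
    rw [← hg2, he])
  have h3 := congrArg (fun q : (S.subtype hSC : Subgroup C) => ((q : C) : G)) (congrArg π hprod)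
  simp only [map_mul, hmv, mul_one] at h3
  rw [show π ⟨y, hyC⟩ = ⟨⟨y, hyC⟩, Subgroup.mem_subgroupOf.2 hw⟩ from hπ ⟨_, Subgroup.mem_subgroupOf.2 hw⟩] at h3
  refine hne ((mem_zed hw).2 ?_)
  have := mul_mem (key ci (Subtype.ext hi2)) (key cj (Subtype.ext hj2))
  refine (show _ = (⟨y, hw⟩ : (S : Subgroup G)) from Subtype.ext ?_) ▸ this
  exact h3

theorem big_prod_eq_zero (μ : (S : Subgroup G) →* ℂˣ) {i j : G} (hi : i * i = 1) (hj : j * j = 1) :
    h.big μ (i * j) = 0 := by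
  obtain ⟨w, hw⟩ := exists_conj_twoPart S (i * j)
  rw [big, sFun_eq (h.fn_inv μ) hw]
  exact h.fn_zed μ _ (h.twoPart_prod_mem hi hj hw)

theorem big_turn (μ : (S : Subgroup G) →* ℂˣ) : h.big (h.turn μ) = h.big μ := by
  have : h.fn (h.turn μ) = h.fn μ := by
    funext g
    by_cases hg : g ∈ (S : Subgroup G)
    · simp only [fn, dif_pos hg, xi, Fin.sum_univ_three, orb, Matrix.cons_val_zero, Matrix.cons_val_one,
        Matrix.cons_val_two, Matrix.tail_cons, Matrix.head_cons, h.turn_cube]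
      ring
    · simp only [fn, dif_neg hg]
  simp only [big, this]

theorem cf_rel {μ ν : (S : Subgroup G) →* ℂˣ} (hR : h.Rel μ ν) : h.cf μ = h.cf ν := by
  obtain ⟨i, rfl⟩ := hR
  fin_cases i <;> simp [cf, orb, h.big_turn]

/-- A function of the involutions. -/
noncomputable def invFn (_ : Rotation S n) : G → ℂ := fun g => if g ∈ zed S ∧ g ≠ 1 then 1 else 0

theorem invFn_inv : FInv S h.invFn := by
  intro g x hx hgx
  simp only [invFn]
  refine if_congr ⟨fun e => ?_, fun e => ?_⟩ rfl rfl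
  · have h1 : orderOf x = 2 := (orderOf_conj' g x).symm.trans (h.orderOf_zed e.1 e.2)
    exact ⟨h.mem_zed_of_orderOf hx h1, fun e' => by rw [e', orderOf_one] at h1; omega⟩
  · exact ⟨h.mem_zed_of_orderOf hgx ((orderOf_conj' g x).trans (h.orderOf_zed e.1 e.2)),
      fun e' => e.2 (conj_eq_one_iff.1 e')⟩

theorem classInner_invFn {t : G} (ht : t ∈ zed S) (ht1 : t ≠ 1) {Ψ : G → ℂ}
    (hΨ : IsClassFunction G Ψ)
    (hconst : ∀ z : G, (∃ k, orderOf z = 2 ^ k) → z ≠ 1 →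
      ∀ s : Subgroup.centralizer ({z} : Set G), IsPRegular 2 s → Ψ (z * (s : G)) = Ψ z) :
    classInner (sFun S h.invFn) Ψ * 64 = conj (Ψ t) := by
  have ht2 := h.orderOf_zed ht ht1
  have hval : ∀ z : G, (∃ k, orderOf z = 2 ^ k) →
      sFun S h.invFn z = if orderOf z = 2 then 1 else 0 := by
    rintro z ⟨k, hk⟩
    obtain ⟨u, hu⟩ := exists_conj_twoPart S z
    rw [twoPart_self hk] at hu
    rw [sFun_two h.invFn_inv hk hu]
    simp only [invFn]
    refine if_congr ⟨fun e => (orderOf_conj' u z).symm.trans (h.orderOf_zed e.1 e.2), fun e => ?_⟩ rfl rfl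
    exact ⟨h.mem_zed_of_orderOf hu ((orderOf_conj' u z).trans e), fun e' => by
      rw [conj_eq_one_iff] at e'; rw [e', orderOf_one] at e; omega⟩
  rw [Cfsg.classInner, sum_sections h.invFn_inv (by simp [invFn]) hconst,
    Finset.sum_congr rfl fun z hz => by rw [hval z (Finset.mem_filter.1 hz).2]]
  simp only [ite_mul, one_mul, zero_mul]
  rw [← Finset.sum_filter, Finset.filter_filter]
  have hone : ∀ z ∈ Finset.univ.filter (fun z : G => (∃ k, orderOf z = 2 ^ k) ∧ orderOf z = 2),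
      conj (Ψ z) * (regCard z : ℂ) = conj (Ψ t) * regCard t := by
    intro z hz
    obtain ⟨u, rfl⟩ := isConj_iff.1 (h.isConj_involution ht ht1 (Finset.mem_filter.1 hz).2.2)
    rw [hΨ t u, ← h.regCard_conj (z := t) (u := u)]
  rw [Finset.sum_congr rfl hone, Finset.sum_const, nsmul_eq_mul]
  have hcard : (Finset.univ.filter (fun z : G => (∃ k, orderOf z = 2 ^ k) ∧ orderOf z = 2)).card =
      (Subgroup.centralizer ({t} : Set G)).index := by
    rw [← CfsgLib.Char.card_isConj_eq_index, Nat.card_eq_fintype_card, Fintype.card_subtype]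
    refine congrArg Finset.card (Finset.filter_congr fun z _ => ⟨fun e => ?_, fun e => ?_⟩)
    · exact (h.isConj_involution ht ht1 e.2).symm
    · obtain ⟨u, hu⟩ := isConj_iff.1 e
      have h2 : orderOf z = 2 := by rw [← ht2, ← hu, orderOf_conj']
      exact ⟨⟨1, by rw [h2, pow_one]⟩, h2⟩
  set x : (S : Subgroup G) := ⟨t, h.zed_le ht⟩ with hxdef
  have hreg : regCard t * 64 = Nat.card (Subgroup.centralizer ({t} : Set G)) := by
    have e := h.regCard_mul x (fun e => ht1 (congrArg Subtype.val e))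
    have hfull : Subgroup.centralizer ({x} : Set (S : Subgroup G)) = ⊤ := by
      refine eq_top_iff.2 fun s _ => ?_
      rw [Subgroup.mem_centralizer_singleton_iff]
      exact Subtype.ext (Subgroup.mem_centralizer_singleton_iff.1 (h.sylow_le_centralizer ht s.2))
    rwa [hfull, Subgroup.card_top, h.grp.card] at e
  have hG : ((Subgroup.centralizer ({t} : Set G)).index : ℂ) * ((regCard t : ℂ) * 64) = Nat.card G := by
    rw [← (Subgroup.centralizer ({t} : Set G)).index_mul_card, ← hreg]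
    push_cast
    ring
  rw [hcard, mul_assoc, inv_mul_eq_iff_eq_mul₀ CfsgLib.Char.card_ne_zero, ← hG]
  ring

variable {M : Ideal AlgInt} (hM : IsPModular 2 M)
include hM

/-- Two congruences from the restriction to `S`. -/
theorem congruences [Fintype ((S : Subgroup G) →* ℂˣ)] {χ : IrrCharacter G}
    (hχ : χ ∈ principalBlock M G) {t : G} (ht : t ∈ zed S) (ht1 : t ≠ 1) {D U : ℤ}
    (hD : (χ : G → ℂ) 1 = D) (hU : (χ : G → ℂ) t = U) :
    (64 : ℤ) ∣ D + 3 * U + 4 * ∑ μ, h.cf μ χ ∧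
      (64 : ℤ) ∣ D * D + 3 * U * U + 64 * (∑ μ, h.cf μ χ * h.cf μ χ) -
        4 * ((∑ μ, h.cf μ χ) * (∑ μ, h.cf μ χ)) := by
  set K := (∑ μ, h.cf μ χ : ℤ) with hK
  set L : ↥(S : Subgroup G) → ℂ := fun x => ∑ μ, (h.cf μ χ : ℂ) * (μ x : ℂ) with hL
  have hLc : ∀ x ∈ Subgroup.center (S : Subgroup G), L x = (K : ℂ) := fun x hx => by
    simp [L, K, h.grp.hom_center _ hx]
  set Z := Finset.univ.filter (fun x : (S : Subgroup G) => x ∈ Subgroup.center (S : Subgroup G)) with hZ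
  have hZ4 : Z.card = 4 := by
    rw [hZ, ← Fintype.card_subtype, ← Nat.card_eq_fintype_card]
    exact h.grp.centre
  have h1Z : (1 : (S : Subgroup G)) ∈ Z := Finset.mem_filter.2 ⟨Finset.mem_univ _, one_mem _⟩
  have hsplit : ∀ f : ℂ → ℂ, ∑ x : (S : Subgroup G), f ((χ : G → ℂ) x) =
      f D + 3 * f U + ∑ x ∈ Zᶜ, f (-L x) := by
    intro f
    rw [← Finset.sum_add_sum_compl Z, ← Finset.add_sum_erase Z _ h1Z, OneMemClass.coe_one, hD,
      Finset.sum_congr rfl (g := fun _ => f U) fun x hx => ?_, Finset.sum_const,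
      Finset.card_erase_of_mem h1Z, hZ4, nsmul_eq_mul,
      Finset.sum_congr rfl (s₂ := Zᶜ) (g := fun x => f (-L x)) fun x hx => by
        rw [h.value_eq hM hχ (by simpa [Z] using hx)]]
    · norm_num
    · obtain ⟨hx1, hxc⟩ := Finset.mem_erase.1 hx
      have hxz : (x : G) ∈ zed S := ⟨x, (Finset.mem_filter.1 hxc).2, rfl⟩
      obtain ⟨u, hu⟩ := isConj_iff.1 (h.isConj_zed ht ht1 hxz fun e => hx1 (Subtype.ext e))
      rw [← hu, irr_conj_apply, hU]
  have hone : h.cf 1 χ = 0 := h.cf_one χ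
  have hsum1 : ∑ x ∈ Zᶜ, -L x = 4 * (K : ℂ) := by
    have e : ∑ x : (S : Subgroup G), L x = 0 := by
      simp only [L]
      rw [Finset.sum_comm, Finset.sum_eq_zero]
      intro μ _
      rw [← Finset.mul_sum, h.grp.sum_hom]
      split_ifs with h1
      · subst h1; rw [hone]; simp
      · simp
    rw [← Finset.sum_add_sum_compl Z, Finset.sum_congr rfl fun x hx => hLc x (Finset.mem_filter.1 hx).2,
      Finset.sum_const, hZ4, nsmul_eq_mul] at e
    rw [Finset.sum_neg_distrib]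
    push_cast at e
    linear_combination -e
  have hsum2 : ∑ x ∈ Zᶜ, -L x * -L x =
      64 * ((∑ μ, h.cf μ χ * h.cf μ χ : ℤ) : ℂ) - 4 * ((K : ℂ) * K) := by
    have e : ∑ x : (S : Subgroup G), L x * L x = 64 * ((∑ μ, h.cf μ χ * h.cf μ χ : ℤ) : ℂ) := by
      simp only [L, Finset.sum_mul_sum]
      rw [Finset.sum_comm]
      push_cast
      rw [Finset.mul_sum]
      refine Finset.sum_congr rfl fun μ _ => ?_
      rw [Finset.sum_comm, Finset.sum_eq_single μ]
      · rw [Finset.sum_congr rfl (g := fun _ => (h.cf μ χ : ℂ) * h.cf μ χ) fun x _ => ?_, Finset.sum_const,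
          Finset.card_univ, nsmul_eq_mul, ← Nat.card_eq_fintype_card, h.grp.card]
        · norm_num
        · rw [mul_mul_mul_comm, ← Units.val_mul, h.grp.hom_sq, Units.val_one, mul_one]
      · intro ν _ hne
        calc ∑ x, (h.cf μ χ : ℂ) * (μ x : ℂ) * ((h.cf ν χ : ℂ) * (ν x : ℂ))
            = (h.cf μ χ : ℂ) * h.cf ν χ * ∑ x, ((μ * ν : (S : Subgroup G) →* ℂˣ) x : ℂ) := by
              rw [Finset.mul_sum]
              exact Finset.sum_congr rfl fun x _ => by rw [MonoidHom.mul_apply, Units.val_mul]; ring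
          _ = 0 := by
              rw [h.grp.sum_hom, if_neg, mul_zero]
              intro e
              refine hne (MonoidHom.ext fun x => ?_)
              exact mul_left_cancel ((DFunLike.congr_fun e x).trans (h.grp.hom_sq μ x).symm)
      · intro hc; exact absurd (Finset.mem_univ μ) hc
    rw [← Finset.sum_add_sum_compl Z, Finset.sum_congr rfl fun x hx => by
      rw [hLc x (Finset.mem_filter.1 hx).2], Finset.sum_const, hZ4, nsmul_eq_mul] at e
    simp only [neg_mul_neg]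
    push_cast at e ⊢
    linear_combination e
  have hres := CfsgLib.Char.IsCharacter.restrict (CfsgLib.Char.isCharacter_irr χ) (S : Subgroup G)
  have hN : (Nat.card (S : Subgroup G) : ℂ) = 64 := by rw [h.grp.card]; norm_num
  constructor
  · obtain ⟨m, hm⟩ := CfsgLib.Char.IsCharacter.classInner_nat hres CfsgLib.Char.isCharacter_one
    rw [Cfsg.classInner, inv_mul_eq_iff_eq_mul₀ CfsgLib.Char.card_ne_zero, hN] at hm
    simp only [map_one, mul_one] at hm
    have e0 := hsplit id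
    simp only [id] at e0
    rw [e0] at hm
    rw [hsum1] at hm
    exact ⟨m, by exact_mod_cast hm⟩
  · obtain ⟨m, hm⟩ := CfsgLib.Char.IsCharacter.classInner_nat hres hres
    rw [Cfsg.classInner, inv_mul_eq_iff_eq_mul₀ CfsgLib.Char.card_ne_zero, hN,
      hsplit fun z => z * conj z] at hm
    have hreal : ∀ x, conj (-L x) = -L x := fun x => by simp [L, h.grp.conj_hom]
    simp only [hreal, map_intCast] at hm
    rw [hsum2] at hm
    refine ⟨m, ?_⟩
    have e : ((D * D + 3 * U * U + 64 * (∑ μ, h.cf μ χ * h.cf μ χ) - 4 * (K * K) : ℤ) : ℂ) =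
        ((64 * (m : ℤ) : ℤ) : ℂ) := by push_cast at hm ⊢; linear_combination hm
    exact_mod_cast e

theorem false_of_simple [IsSimpleGroup G] (hG : ¬ IsMulCommutative G) : False := by
  haveI : Fact (Nat.Prime 2) := ⟨Nat.prime_two⟩
  haveI := h.grp.finite_dual
  letI := Fintype.ofFinite ((S : Subgroup G) →* ℂˣ)
  obtain ⟨⟨t, ht⟩, ht1'⟩ : ∃ t : zed S, t ≠ 1 := by
    haveI := Fintype.ofFinite (zed S)
    refine Fintype.exists_ne_of_one_lt_card ?_ 1
    rw [← Nat.card_eq_fintype_card, zed, Subgroup.card_map_of_injective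
      (S : Subgroup G).subtype_injective, h.grp.centre]
    norm_num
  have ht1 : t ≠ 1 := fun e => ht1' (Subtype.ext e)
  have htt : t * t = 1 := by rw [← sq, ← h.orderOf_zed ht ht1, pow_orderOf_eq_one]
  set triv := trivChar G with htriv
  set s := (Finset.univ : Finset (IrrCharacter G)).erase triv with hs
  have hsq : ∀ μ, μ ≠ 1 → ∑ χ ∈ s, h.cf μ χ * h.cf μ χ = ((3 : ℕ) : ℤ) := by
    intro μ hμ
    have e := classInner_eq_sum_coeff (h.gc_big μ) (h.gc_big μ)
    rw [h.classInner_self hμ] at e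
    have e' : ∑ χ, h.cf μ χ * h.cf μ χ = 4 := by exact_mod_cast e.symm
    rw [← Finset.add_sum_erase _ _ (Finset.mem_univ triv), h.cf_triv hμ, ← hs] at e'
    omega
  have hprod : ∀ μ ν, μ ≠ 1 → ν ≠ 1 → ¬ h.Rel μ ν → ∑ χ ∈ s, h.cf μ χ * h.cf ν χ = 2 := by
    intro μ ν hμ hν hR
    have e := classInner_eq_sum_coeff (h.gc_big μ) (h.gc_big ν)
    rw [h.classInner_cross hμ hν hR] at e
    have e' : ∑ χ, h.cf μ χ * h.cf ν χ = 3 := by exact_mod_cast e.symm
    rw [← Finset.add_sum_erase _ _ (Finset.mem_univ triv), h.cf_triv hμ, h.cf_triv hν, ← hs] at e'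
    omega
  have hunit := fun μ (hμ : μ ≠ 1) => unit_coeff s (h.cf μ) 3 le_rfl (hsq μ hμ)
  let ι := {μ : (S : Subgroup G) →* ℂˣ // μ ≠ 1}
  let P : ι → Finset (IrrCharacter G × ℤ) :=
    fun μ => (s.filter fun χ => h.cf μ.1 χ ≠ 0).image fun χ => (χ, h.cf μ.1 χ)
  have hPmem : ∀ (μ : ι) p, p ∈ P μ ↔ p.1 ∈ s ∧ p.2 ≠ 0 ∧ h.cf μ.1 p.1 = p.2 := by
    intro μ p
    simp only [P, Finset.mem_image, Finset.mem_filter]
    constructor
    · rintro ⟨χ, ⟨h1, h2⟩, rfl⟩; exact ⟨h1, h2, rfl⟩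
    · rintro ⟨h1, h2, h3⟩; exact ⟨p.1, ⟨h1, h3 ▸ h2⟩, Prod.ext rfl h3⟩
  have hPcard : ∀ μ : ι, (P μ).card = 3 := fun μ => by
    rw [Finset.card_image_of_injective _ fun a b e => congrArg Prod.fst e]
    exact (hunit μ.1 μ.2).2
  have hagree := fun (μ ν : ι) (hR : ¬ h.Rel μ.1 ν.1) => Homocyclic.agree_of_sum s (h.cf μ.1)
    (h.cf ν.1) (hunit μ.1 μ.2).2 (hunit μ.1 μ.2).1 (hunit ν.1 ν.2).1 (hprod μ.1 ν.1 μ.2 ν.2 hR)
  have hinter : ∀ μ ν : ι, ¬ h.Rel μ.1 ν.1 → (P μ ∩ P ν).card = 2 := by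
    intro μ ν hR
    rw [← (hagree μ ν hR).1,
      ← Finset.card_image_of_injective (s.filter fun χ => h.cf μ.1 χ ≠ 0 ∧ h.cf μ.1 χ = h.cf ν.1 χ)
        (f := fun χ => (χ, h.cf μ.1 χ)) fun a b e => congrArg Prod.fst e]
    congr 1
    ext p
    simp only [Finset.mem_inter, hPmem, Finset.mem_image, Finset.mem_filter]
    constructor
    · rintro ⟨⟨h1, h2, h3⟩, -, -, h4⟩
      exact ⟨p.1, ⟨h1, h3 ▸ h2, h3.trans h4.symm⟩, Prod.ext rfl h3⟩
    · rintro ⟨χ, ⟨h1, h2, h3⟩, rfl⟩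
      exact ⟨⟨h1, h2, rfl⟩, h1, h2, h3.symm⟩
  have hex : ∀ a b c d : ι, ∃ j : ι, ¬ h.Rel a.1 j.1 ∧ ¬ h.Rel b.1 j.1 ∧ ¬ h.Rel c.1 j.1 ∧ ¬ h.Rel d.1 j.1 :=
    fun a b c d => by
    obtain ⟨μ, h1, h2⟩ := h.exists_fifth a.1 b.1 c.1 d.1
    exact ⟨⟨μ, h1⟩, h2⟩
  obtain ⟨φ, hφ, -⟩ := h.exists_fifth 1 1 1 1
  set μ₀ : ι := ⟨φ, hφ⟩
  obtain ⟨⟨A, a⟩, ⟨B, b⟩, ⟨C₀, c₀⟩, hpq, -, -, hS0, hall⟩ :=
    Homocyclic.common_pair P (fun μ ν => h.Rel μ.1 ν.1) (fun μ => ⟨0, rfl⟩)
      (fun μ ν e => by simp only [P, h.cf_rel e]) hPcard hinter hex μ₀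
  -- the third constituent of each function
  have hthird : ∀ μ : ι, ∃ C c, (C, c) ∈ P μ ∧ P μ = {(A, a), (B, b), (C, c)} ∧
      (C, c) ≠ (A, a) ∧ (C, c) ≠ (B, b) := by
    intro μ
    have hsub : ({(A, a), (B, b)} : Finset _) ⊆ P μ := by
      intro p hp
      simp only [Finset.mem_insert, Finset.mem_singleton] at hp
      rcases hp with rfl | rfl
      exacts [(hall μ).1, (hall μ).2]
    obtain ⟨⟨C, c⟩, hC⟩ := Finset.card_eq_one.1 (show (P μ \ {(A, a), (B, b)}).card = 1 by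
      rw [Finset.card_sdiff_of_subset hsub, hPcard, Finset.card_pair hpq])
    have hm := Finset.mem_sdiff.1 (hC.symm ▸ Finset.mem_singleton_self (C, c) :
      (C, c) ∈ P μ \ {(A, a), (B, b)})
    simp only [Finset.mem_insert, Finset.mem_singleton, not_or] at hm
    refine ⟨C, c, hm.1, ?_, hm.2.1, hm.2.2⟩
    rw [← Finset.union_sdiff_of_subset hsub, hC]
    ext x; simp [or_assoc]
  choose C c hCmem hPeq hCA hCB using hthird
  have hA := (hPmem μ₀ (A, a)).1 (hall μ₀).1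
  have hB := (hPmem μ₀ (B, b)).1 (hall μ₀).2
  simp only at hA hB
  have hsupp : ∀ (μ : ι) (W : IrrCharacter G → ℂ), ∑ χ, (h.cf μ.1 χ : ℂ) * W χ
      = W triv + ((a : ℂ) * W A + ((b : ℂ) * W B + (c μ : ℂ) * W (C μ))) := by
    intro μ W
    rw [← Finset.add_sum_erase _ _ (Finset.mem_univ triv), h.cf_triv μ.2, Int.cast_one, one_mul, ← hs,
      ← Finset.sum_filter_of_ne (s := s) (p := fun χ => h.cf μ.1 χ ≠ 0) (fun χ _ hne e => by
        rw [e, Int.cast_zero, zero_mul] at hne; exact hne rfl)]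
    congr 1
    rw [← Finset.sum_image (f := fun p : IrrCharacter G × ℤ => (p.2 : ℂ) * W p.1)
      (g := fun χ => (χ, h.cf μ.1 χ)) fun x _ y _ e => congrArg Prod.fst e]
    change ∑ p ∈ P μ, (p.2 : ℂ) * W p.1 = _
    rw [hPeq, Finset.sum_insert (by simp [hpq, (hCA μ).symm]),
      Finset.sum_insert (by simp [(hCB μ).symm]), Finset.sum_singleton]
  have hsign : ∀ (μ : ι) (p : IrrCharacter G × ℤ), p ∈ P μ → p.2 * p.2 = 1 := by
    intro μ p hp
    obtain ⟨h1, h2, h3⟩ := (hPmem μ p).1 hp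
    rcases (hunit μ.1 μ.2).1 p.1 h1 (by rw [h3]; exact h2) with e | e <;> rw [← h3, e] <;> norm_num
  -- integral values
  have hintv : ∀ χ : IrrCharacter G, ∃ U : ℤ, (χ : G → ℂ) t = U := fun χ =>
    CfsgLib.Char.DegPMinusE.exists_int_involution (CfsgLib.Char.isCharacter_irr χ) htt
  choose U hU using hintv
  have hdeg : ∀ χ : IrrCharacter G, (χ : G → ℂ) 1 = ((charDegree (χ : G → ℂ) : ℤ) : ℂ) := fun χ => by
    rw [irr_one_eq, Int.cast_natCast]
  have hUt : U triv = 1 := by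
    have e := hU triv
    rw [show ((triv : IrrCharacter G) : G → ℂ) t = 1 from rfl] at e
    exact_mod_cast e.symm
  have hrelt : ∀ μ : ι, 1 + (a * U A + (b * U B + c μ * U (C μ))) = 0 := by
    intro μ
    have e := eq_sum_coeff (h.gc_big μ.1) t
    rw [show h.big μ.1 t = h.fn μ.1 ((⟨t, h.zed_le ht⟩ : (S : Subgroup G)) : G) from
      sFun_coe (h.fn_inv μ.1) ⟨t, h.zed_le ht⟩, h.fn_zed μ.1 _ ht] at e
    rw [show (∑ χ, (coeff (h.big μ.1) χ : ℂ) * (χ : G → ℂ) t) = _ from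
      hsupp μ (fun χ => (χ : G → ℂ) t)] at e
    simp only [hU, hUt] at e
    exact_mod_cast e.symm
  have hblock : ∀ (μ : ι) (p : IrrCharacter G × ℤ), p ∈ P μ → p.1 ∈ principalBlock M G := fun μ p hp => by
    obtain ⟨-, h2, h3⟩ := (hPmem μ p).1 hp
    exact h.mem_block hM (μ := μ.1) (by rw [h3]; exact h2)
  -- the Bessel inequality
  have hconj : sFun S h.invFn t = 1 := by
    rw [show t = ((⟨t, h.zed_le ht⟩ : (S : Subgroup G)) : G) from rfl, sFun_coe h.invFn_inv]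
    simp [invFn, ht, ht1]
  have hbessel : ∀ F : Finset (IrrCharacter G), (∀ χ ∈ F, χ ∈ principalBlock M G) →
      ∑ χ ∈ F, U χ * U χ ≤ 64 := by
    intro F hF
    have hself : classInner (sFun S h.invFn) (sFun S h.invFn) * 64 = 1 := by
      rw [h.classInner_invFn ht ht1 (sFun_isClassFunction h.invFn_inv) (fun z ⟨k, hk⟩ _ s hs =>
        sFun_section h.invFn_inv hk s hs), hconj, map_one]
    rw [CfsgLib.Char.classInner_eq_sum_irr (sFun_isClassFunction h.invFn_inv)] at hself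
    have hterm : ∀ χ : IrrCharacter G, classInner (sFun S h.invFn) (χ : G → ℂ) * classInner (χ : G → ℂ) (sFun S h.invFn) =
        ((Complex.normSq (classInner (sFun S h.invFn) (χ : G → ℂ)) : ℝ) : ℂ) := fun χ => by
      rw [← Complex.mul_conj, CfsgLib.Char.classInner_conj_symm]
    simp only [hterm] at hself
    have hr : (∑ χ : IrrCharacter G, Complex.normSq (classInner (sFun S h.invFn) (χ : G → ℂ))) * 64 = 1 := by
      exact_mod_cast hself
    have hle := Finset.sum_le_univ_sum_of_nonneg (s := F)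
      (fun χ : IrrCharacter G => Complex.normSq_nonneg (classInner (sFun S h.invFn) (χ : G → ℂ)))
    have hval : ∀ χ ∈ F, Complex.normSq (classInner (sFun S h.invFn) (χ : G → ℂ)) * 4096 = ((U χ * U χ : ℤ) : ℝ) := by
      intro χ hχ
      have e := h.classInner_invFn ht ht1 (Char.IsIrrCharacter.isClassFunction χ.2)
        (fun z hz hz1 s hs => h.apply_section hM (hF χ hχ) hz hz1 s hs)
      rw [hU, map_intCast] at e
      have e' := congrArg Complex.normSq e
      rw [map_mul, Complex.normSq_intCast] at e'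
      norm_num [Complex.normSq_ofNat] at e'
      push_cast
      linarith
    have h2 : ((∑ χ ∈ F, U χ * U χ : ℤ) : ℝ) ≤ ((64 : ℤ) : ℝ) := by
      push_cast
      have e3 : ∑ χ ∈ F, ((U χ : ℝ) * U χ) = (∑ χ ∈ F, Complex.normSq (classInner (sFun S h.invFn) (χ : G → ℂ))) * 4096 := by
        rw [Finset.sum_mul]
        exact Finset.sum_congr rfl fun χ hχ => by rw [hval χ hχ]; push_cast; ring
      rw [e3]
      nlinarith
    exact_mod_cast h2
  -- five orbits
  obtain ⟨μ₁, n₁, -⟩ := hex μ₀ μ₀ μ₀ μ₀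
  obtain ⟨μ₂, n₂, m₂, -⟩ := hex μ₀ μ₁ μ₁ μ₁
  obtain ⟨μ₃, n₃, m₃, l₃, -⟩ := hex μ₀ μ₁ μ₂ μ₂
  obtain ⟨μ₄, n₄, m₄, l₄, k₄⟩ := hex μ₀ μ₁ μ₂ μ₃
  have hAmem : ∀ μ : ι, h.cf μ.1 A = a ∧ h.cf μ.1 B = b := fun μ =>
    ⟨((hPmem μ (A, a)).1 (hall μ).1).2.2, ((hPmem μ (B, b)).1 (hall μ).2).2.2⟩
  have hneA : ∀ μ : ι, C μ ≠ A ∧ C μ ≠ B := fun μ => by
    have hc := ((hPmem μ _).1 (hCmem μ)).2.2
    simp only at hc
    exact ⟨fun e => hCA μ (Prod.ext e (by show c μ = a; rw [← hc, e]; exact (hAmem μ).1)),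
      fun e => hCB μ (Prod.ext e (by show c μ = b; rw [← hc, e]; exact (hAmem μ).2))⟩
  have hABne : A ≠ B := fun e => hpq (Prod.ext e (by
    show a = b; rw [← (hAmem μ₀).1, e]; exact (hAmem μ₀).2))
  have hoff : ∀ μ ν : ι, ¬ h.Rel μ.1 ν.1 → h.cf ν.1 (C μ) = 0 := by
    intro μ ν hR
    by_contra hne
    obtain ⟨h1, h2, h3⟩ := (hPmem μ _).1 (hCmem μ)
    simp only at h1 h2 h3
    have heq := (hagree μ ν hR).2 (C μ) h1 (by rw [h3]; exact h2) hne
    have hsub : ({(A, a), (B, b), (C μ, c μ)} : Finset (IrrCharacter G × ℤ)) ⊆ P μ ∩ P ν := by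
      intro p hp
      refine Finset.mem_inter.2 ⟨hPeq μ ▸ hp, ?_⟩
      simp only [Finset.mem_insert, Finset.mem_singleton] at hp
      rcases hp with rfl | rfl | rfl
      exacts [(hall ν).1, (hall ν).2, (hPmem ν _).2 ⟨h1, h2, heq.symm.trans h3⟩]
    have := Finset.card_le_card hsub
    rw [← hPeq, hPcard, hinter μ ν hR] at this
    omega
  have hCne : ∀ μ ν : ι, ¬ h.Rel μ.1 ν.1 → C μ ≠ C ν := by
    intro μ ν hR e
    obtain ⟨-, h2, h3⟩ := (hPmem ν _).1 (hCmem ν)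
    simp only at h2 h3
    exact h2 (by rw [← h3, ← e]; exact hoff μ ν hR)
  have hmemP : ∀ (μ : ι) (p : IrrCharacter G × ℤ), p ∈ P μ → p.1 ≠ triv := fun μ p hp =>
    (Finset.mem_erase.1 ((hPmem μ p).1 hp).1).1
  set u := a * U A with hu
  set v := b * U B with hv
  set w := c μ₀ * U (C μ₀) with hw
  have hwsq : ∀ μ : ι, U (C μ) * U (C μ) = w * w := by
    intro μ
    have e : c μ * U (C μ) = w := by
      have h1 := hrelt μ
      have h2 := hrelt μ₀
      rw [hw]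
      linear_combination h1 - h2
    have hc : c μ * c μ = 1 := hsign μ _ (hCmem μ)
    rw [← e, mul_mul_mul_comm, hc, one_mul]
  have hbound : 1 + u * u + v * v + 5 * (w * w) ≤ 64 := by
    have e := hbessel {triv, A, B, C μ₀, C μ₁, C μ₂, C μ₃, C μ₄} (by
      intro χ hχ
      simp only [Finset.mem_insert, Finset.mem_singleton] at hχ
      rcases hχ with rfl | rfl | rfl | rfl | rfl | rfl | rfl | rfl
      · exact trivChar_mem_principalBlock hM
      · exact hblock μ₀ (χ, a) (hall μ₀).1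
      · exact hblock μ₀ (χ, b) (hall μ₀).2
      · exact hblock μ₀ (C μ₀, c μ₀) (hCmem μ₀)
      · exact hblock μ₁ (C μ₁, c μ₁) (hCmem μ₁)
      · exact hblock μ₂ (C μ₂, c μ₂) (hCmem μ₂)
      · exact hblock μ₃ (C μ₃, c μ₃) (hCmem μ₃)
      · exact hblock μ₄ (C μ₄, c μ₄) (hCmem μ₄))
    have nA : triv ≠ A := (hmemP μ₀ _ (hall μ₀).1).symm
    have nB : triv ≠ B := (hmemP μ₀ _ (hall μ₀).2).symm
    have nC : ∀ μ : ι, triv ≠ C μ := fun μ => (hmemP μ _ (hCmem μ)).symm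
    have cA : ∀ μ : ι, A ≠ C μ := fun μ => (hneA μ).1.symm
    have cB : ∀ μ : ι, B ≠ C μ := fun μ => (hneA μ).2.symm
    rw [Finset.sum_insert (by simp [nA, nB, nC]), Finset.sum_insert (by simp [hABne, cA]),
      Finset.sum_insert (by simp [cB]),
      Finset.sum_insert (by simp [hCne μ₀ μ₁ n₁, hCne μ₀ μ₂ n₂, hCne μ₀ μ₃ n₃, hCne μ₀ μ₄ n₄]),
      Finset.sum_insert (by simp [hCne μ₁ μ₂ m₂, hCne μ₁ μ₃ m₃, hCne μ₁ μ₄ m₄]),
      Finset.sum_insert (by simp [hCne μ₂ μ₃ l₃, hCne μ₂ μ₄ l₄]),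
      Finset.sum_insert (by simp [hCne μ₃ μ₄ k₄]), Finset.sum_singleton, hUt, hwsq, hwsq, hwsq, hwsq, hwsq] at e
    have ea : U A * U A = u * u := by
      have hc : a * a = 1 := hsign μ₀ _ (hall μ₀).1
      rw [hu, mul_mul_mul_comm, hc, one_mul]
    have eb : U B * U B = v * v := by
      have hc : b * b = 1 := hsign μ₀ _ (hall μ₀).2
      rw [hv, mul_mul_mul_comm, hc, one_mul]
    rw [ea, eb] at e
    linarith
  -- the congruences
  have hcfone := h.cf_one
  have hsumall : ∀ (χ : IrrCharacter G) (d : ℤ), (∀ μ : ι, h.cf μ.1 χ = d) →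
      ∑ μ, h.cf μ χ = 15 * d ∧ ∑ μ, h.cf μ χ * h.cf μ χ = 15 * (d * d) := by
    intro χ d hd
    have hc : (Finset.univ.erase (1 : (S : Subgroup G) →* ℂˣ)).card = 15 := by
      rw [Finset.card_erase_of_mem (Finset.mem_univ _), Finset.card_univ, Fintype.card_eq_nat_card,
        h.grp.card_dual]
    constructor <;>
      rw [← Finset.add_sum_erase _ _ (Finset.mem_univ (1 : (S : Subgroup G) →* ℂˣ)), hcfone,
        Finset.sum_congr rfl fun μ hμ => by rw [hd ⟨μ, (Finset.mem_erase.1 hμ).1⟩],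
        Finset.sum_const, hc, nsmul_eq_mul] <;> push_cast <;> ring
  have hsumC : ∑ μ, h.cf μ (C μ₀) = 3 * c μ₀ ∧
      ∑ μ, h.cf μ (C μ₀) * h.cf μ (C μ₀) = 3 * (c μ₀ * c μ₀) := by
    have hd : ∀ μ, h.cf μ (C μ₀) = if μ ∈ Finset.univ.image (h.orb μ₀.1) then c μ₀ else 0 := by
      intro μ
      by_cases hm : μ ∈ Finset.univ.image (h.orb μ₀.1)
      · obtain ⟨i, -, hi⟩ := Finset.mem_image.1 hm
        rw [if_pos hm, ← h.cf_rel ⟨i, hi⟩]
        exact ((hPmem μ₀ _).1 (hCmem μ₀)).2.2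
      · rw [if_neg hm]
        by_cases h1 : μ = 1
        · rw [h1, hcfone]
        · exact hoff μ₀ ⟨μ, h1⟩ fun ⟨i, hi⟩ => hm (Finset.mem_image.2 ⟨i, Finset.mem_univ _, hi⟩)
    have hc : (Finset.univ.image (h.orb μ₀.1)).card = 3 := by
      rw [Finset.card_image_of_injective _ (h.orb_injective μ₀.2), Finset.card_univ, Fintype.card_fin]
    have hd2 : ∀ μ, h.cf μ (C μ₀) * h.cf μ (C μ₀) =
        if μ ∈ Finset.univ.image (h.orb μ₀.1) then c μ₀ * c μ₀ else 0 := fun μ => by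
      rw [hd]; split_ifs <;> simp
    constructor
    · rw [Finset.sum_congr rfl fun μ _ => hd μ, Finset.sum_ite_mem, Finset.univ_inter, Finset.sum_const,
        hc, nsmul_eq_mul]
      rfl
    · rw [Finset.sum_congr rfl fun μ _ => hd2 μ, Finset.sum_ite_mem, Finset.univ_inter, Finset.sum_const,
        hc, nsmul_eq_mul]
      rfl
  obtain ⟨eA1, eA2⟩ := h.congruences hM (hblock μ₀ _ (hall μ₀).1) ht ht1 (hdeg A) (hU A)
  obtain ⟨eB1, eB2⟩ := h.congruences hM (hblock μ₀ _ (hall μ₀).2) ht ht1 (hdeg B) (hU B)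
  obtain ⟨eC1, -⟩ := h.congruences hM (hblock μ₀ _ (hCmem μ₀)) ht ht1 (hdeg (C μ₀)) (hU (C μ₀))
  obtain ⟨sA1, sA2⟩ := hsumall A a fun μ => (hAmem μ).1
  obtain ⟨sB1, sB2⟩ := hsumall B b fun μ => (hAmem μ).2
  simp only [sA1, sA2] at eA1 eA2
  simp only [sB1, sB2] at eB1 eB2
  simp only [hsumC.1] at eC1
  have ha2 : a * a = 1 := hsign μ₀ _ (hall μ₀).1
  have hb2 : b * b = 1 := hsign μ₀ _ (hall μ₀).2
  have hc2 : c μ₀ * c μ₀ = 1 := hsign μ₀ _ (hCmem μ₀)
  set dA := (charDegree (A : G → ℂ) : ℤ)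
  set dB := (charDegree (B : G → ℂ) : ℤ)
  set dC := (charDegree (C μ₀ : G → ℂ) : ℤ)
  have first : ∀ {d x e : ℤ}, e * e = 1 → (64 : ℤ) ∣ d + 3 * x + 4 * (15 * e) →
      (64 : ℤ) ∣ e * d + 3 * (e * x) - 4 := by
    rintro d x e he ⟨k, hk⟩
    exact ⟨e * k - 1, by linear_combination e * hk - 60 * he⟩
  have second : ∀ {d x e : ℤ}, e * e = 1 →
      (64 : ℤ) ∣ d * d + 3 * x * x + 64 * (15 * (e * e)) - 4 * (15 * e * (15 * e)) →
      (64 : ℤ) ∣ e * d * (e * d) + 3 * (e * x) * (e * x) - 4 := by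
    rintro d x e he ⟨k, hk⟩
    exact ⟨k - 1, by linear_combination hk + (d * d + 3 * x * x - 60) * he⟩
  have hC1 : (64 : ℤ) ∣ c μ₀ * dC + 3 * w + 12 := by
    obtain ⟨k, hk⟩ := eC1
    exact ⟨c μ₀ * k, by rw [hw]; linear_combination c μ₀ * hk - 12 * hc2⟩
  have hne1 : ∀ (χ : IrrCharacter G) (e : ℤ), χ ≠ triv → e * e = 1 →
      e * (charDegree (χ : G → ℂ) : ℤ) = 1 → False := by
    intro χ e hne he h1
    have h2 : charDegree (χ : G → ℂ) = 1 := by
      have e0 : e = 1 ∨ e = -1 := mul_self_eq_one_iff.1 he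
      have := Int.natCast_nonneg (charDegree (χ : G → ℂ))
      rcases e0 with rfl | rfl <;> omega
    exact hne (CfsgLib.SmallGroups.BlockDegrees.eq_trivChar hG χ h2)
  -- the involution identity
  have hid : 1 + ((a : ℂ) * ((U A : ℂ) * U A / (dA : ℂ)) + ((b : ℂ) * ((U B : ℂ) * U B / (dB : ℂ)) +
      (c μ₀ : ℂ) * ((U (C μ₀) : ℂ) * U (C μ₀) / (dC : ℂ)))) = 0 := by
    have e : ∑ x : G, h.big μ₀.1 (t * (x * t * x⁻¹)) = 0 := Finset.sum_eq_zero fun x _ =>
      h.big_prod_eq_zero μ₀.1 htt (by rw [show x * t * x⁻¹ * (x * t * x⁻¹) = x * (t * t) * x⁻¹ by group,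
        htt, mul_one, mul_inv_cancel])
    simp only [eq_sum_coeff (h.gc_big μ₀.1)] at e
    rw [Finset.sum_comm] at e
    simp only [← Finset.mul_sum, sum_conj_mul] at e
    rw [show (∑ χ, (coeff (h.big μ₀.1) χ : ℂ) * ((Nat.card G : ℂ) * (χ : G → ℂ) t * (χ : G → ℂ) t / (χ : G → ℂ) 1)) = _
      from hsupp μ₀ (fun χ => (Nat.card G : ℂ) * (χ : G → ℂ) t * (χ : G → ℂ) t / (χ : G → ℂ) 1),
      show ((triv : IrrCharacter G) : G → ℂ) t = 1 from rfl,
      show ((triv : IrrCharacter G) : G → ℂ) 1 = 1 from rfl, hdeg, hdeg, hdeg, hU, hU, hU] at e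
    apply mul_left_cancel₀ (CfsgLib.Char.card_ne_zero (G := G))
    linear_combination e
  have nz : ∀ χ : IrrCharacter G, ((charDegree (χ : G → ℂ) : ℤ) : ℂ) ≠ 0 := fun χ =>
    hdeg χ ▸ irr_one_ne_zero χ
  have hidZ : dA * dB * dC + a * (U A * U A) * (dB * dC) + b * (U B * U B) * (dA * dC) +
      c μ₀ * (U (C μ₀) * U (C μ₀)) * (dA * dB) = 0 := by
    have e : ((dA * dB * dC + a * (U A * U A) * (dB * dC) + b * (U B * U B) * (dA * dC) +
        c μ₀ * (U (C μ₀) * U (C μ₀)) * (dA * dB) : ℤ) : ℂ) = 0 := by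
      push_cast
      have n1 : (dA : ℂ) ≠ 0 := nz A
      have n2 : (dB : ℂ) ≠ 0 := nz B
      have n3 : (dC : ℂ) ≠ 0 := nz (C μ₀)
      field_simp at hid
      linear_combination hid
    exact_mod_cast e
  refine false_of_three (DA := a * dA) (DB := b * dB) (DC := c μ₀ * dC) (u := u) (v := v) (w := w)
    (first ha2 eA1) (second ha2 eA2) (first hb2 eB1) (second hb2 eB2) hC1
    (by have h1 := hrelt μ₀; rw [hu, hv, hw]; linear_combination h1) hbound (fun e => hne1 A a (hmemP μ₀ _ (hall μ₀).1) ha2 e)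
    (fun e => hne1 B b (hmemP μ₀ _ (hall μ₀).2) hb2 e) ?_
  rw [hu, hv, hw]
  linear_combination (a * b * c μ₀) * hidZ

end Rotation

end CfsgLib.Involution.AllNilpotent
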