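import Cfsg.Agent.Lib.BrauerSuzuki.HomocyclicSection
import Cfsg.Agent.Lib.Blocks.SectionSums
import Cfsg.Agent.Lib.Involution.ZStar.Main
import Cfsg.Agent.Lib.Involution.U34Sylow
import Cfsg.Agent.Lib.Fusion.Transfer

/-!
# Sylow 2-subgroups of type `U₃(4)` with 2-nilpotent involution centralizers

`U34Group S`: the shape of the Sylow subgroup; `Rotation S n`: an element of `N(S)` rotating
the three involutions and controlling the fusion up to the centre.
-/

set_option autoImplicit false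
set_option linter.style.haveILetI false
set_option linter.unusedSectionVars false

namespace CfsgLib.Involution.AllNilpotent

open Cfsg CfsgLib.BrauerSuzuki
open scoped _root_.Classical

universe u

/-- The shape of a Sylow 2-subgroup of `U₃(4)`. -/
structure U34Group (P : Type*) [Group P] : Prop where
  card : Nat.card P = 64
  centre : Nat.card (Subgroup.center P) = 4
  invol : ∀ x : P, x ^ 2 = 1 ↔ x ∈ Subgroup.center P
  square : ∀ x : P, x ^ 2 ∈ Subgroup.center P
  derived : commutator P = Subgroup.center P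
  coset : ∀ x : P, x ∉ Subgroup.center P → ∀ z ∈ Subgroup.center P, ∃ r : P, r * x * r⁻¹ = x * z

theorem heis_group {F : Type*} [Field F] [Fintype F] [h16 : Fact (Fintype.card F = 16)]
    [σh : Fact (∃ σ : F →+* F, (∀ x, σ x = x ^ 4) ∧ CfsgLib.Classical.IsConjugation σ)] :
    U34Group (U34Sylow.Heis F) where
  card := U34Sylow.card_heis
  centre := U34Sylow.card_center
  invol x := by rw [U34Sylow.mem_center_iff', pow_two, U34Sylow.mul_self_eq_one_iff']
  square x := U34Sylow.sq_mem_center x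
  derived := U34Sylow.center_commutator.symm
  coset := by
    intro g hg z hz
    have hc : g.c ≠ 0 := fun h => hg ((U34Sylow.mem_center_iff' g).2 h)
    have hzc := (U34Sylow.mem_center_iff' z).1 hz
    have hfix : z.b ^ 4 = z.b := by
      have h := z.hb
      rw [hzc] at h
      linear_combination h - z.b * U34Sylow.two0 (F := F)
    obtain ⟨e, he⟩ := U34Sylow.trace_surj hfix
    obtain ⟨k, hk⟩ := U34Sylow.exists_elt (e / g.c ^ 4)
    refine ⟨k, mul_inv_eq_iff_eq_mul.2 (U34Sylow.Heis.ext ?_ ?_)⟩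
    · simp only [U34Sylow.mul_c, hzc]
      ring
    · simp only [U34Sylow.mul_b, U34Sylow.mul_c, hzc, hk, add_zero]
      have h1 : g.c ^ 4 * (e / g.c ^ 4) = e := by field_simp
      have h2 : (e / g.c ^ 4) ^ 4 * g.c = e ^ 4 := by
        rw [div_pow, ← pow_mul]
        field_simp
        linear_combination (-e ^ 4) * U34Sylow.pow16 g.c
      linear_combination h2 - h1 - he + (e ^ 4 - z.b) * U34Sylow.two0 (F := F)

theorem U34Group.congr {P Q : Type*} [Group P] [Group Q] (h : U34Group P) (e : P ≃* Q) :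
    U34Group Q := by
  have hc : ∀ x : P, e x ∈ Subgroup.center Q ↔ x ∈ Subgroup.center P := fun x => by
    simp only [Subgroup.mem_center_iff]
    refine ⟨fun hx y => e.injective (by simpa using hx (e y)), fun hx y => ?_⟩
    obtain ⟨y, rfl⟩ := e.surjective y
    rw [← map_mul, ← map_mul, hx]
  have hmap : (Subgroup.center P).map e.toMonoidHom = Subgroup.center Q := by
    ext y
    obtain ⟨x, rfl⟩ := e.surjective y
    rw [hc]
    exact ⟨fun ⟨a, ha, hae⟩ => e.injective hae ▸ ha, fun hx => ⟨x, hx, rfl⟩⟩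
  refine ⟨(Nat.card_congr e.toEquiv).symm.trans h.card, ?_, fun y => ?_, fun y => ?_, ?_, ?_⟩
  · rw [← hmap, Subgroup.card_map_of_injective e.injective, h.centre]
  · obtain ⟨x, rfl⟩ := e.surjective y
    rw [hc, ← map_pow, ← h.invol, MulEquiv.map_eq_one_iff]
  · obtain ⟨x, rfl⟩ := e.surjective y
    rw [← map_pow, hc]
    exact h.square x
  · rw [← hmap, ← h.derived, _root_.commutator_def, _root_.commutator_def, Subgroup.map_commutator,
      ← MonoidHom.range_eq_map, MonoidHom.range_eq_top.2 e.surjective]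
  · intro y hy z hz
    obtain ⟨x, rfl⟩ := e.surjective y
    obtain ⟨w, rfl⟩ := e.surjective z
    obtain ⟨r, hr⟩ := h.coset x (fun hx => hy ((hc x).2 hx)) w ((hc w).1 hz)
    exact ⟨e r, by rw [← map_inv, ← map_mul, ← map_mul, hr, map_mul]⟩

variable {G : Type u} [Group G] {S : Sylow 2 G}

/-- Centre of `S` inside `G`. -/
def zed (S : Sylow 2 G) : Subgroup G :=
  (Subgroup.center (S : Subgroup G)).map (S : Subgroup G).subtype

theorem mem_zed {x : G} (hx : x ∈ (S : Subgroup G)) :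
    x ∈ zed S ↔ (⟨x, hx⟩ : (S : Subgroup G)) ∈ Subgroup.center (S : Subgroup G) :=
  ⟨fun ⟨y, hy, hyx⟩ => by rwa [show (⟨x, hx⟩ : (S : Subgroup G)) = y from Subtype.ext hyx.symm],
    fun h => ⟨_, h, rfl⟩⟩

/-- An element of `N(S)` rotating the involutions. -/
structure Rotation (S : Sylow 2 G) (n : G) : Prop where
  npc : ∀ t : G, orderOf t = 2 → Cfsg.HasNormalPComplement 2 ↥(Subgroup.centralizer ({t} : Set G))
  grp : U34Group (S : Subgroup G)
  mem : n ∈ Subgroup.normalizer ((S : Subgroup G) : Set G)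
  moves : ∀ t ∈ zed S, t ≠ 1 → n * t * n⁻¹ ≠ t ∧ n * (n * (n * t * n⁻¹) * n⁻¹) * n⁻¹ = t ∧
    ∀ w ∈ zed S, w ≠ 1 → w = t ∨ w = n * t * n⁻¹ ∨ w = n * (n * t * n⁻¹) * n⁻¹

variable [Finite G]

theorem exists_odd_pow_mem (x : G) (hx : x ∈ Subgroup.normalizer ((S : Subgroup G) : Set G)) :
    ∃ m, Odd m ∧ x ^ m ∈ (S : Subgroup G) := by
  haveI : Fact (Nat.Prime 2) := ⟨Nat.prime_two⟩
  obtain ⟨k, m, hm, hk⟩ := Nat.exists_eq_pow_mul_and_not_dvd (orderOf_pos x).ne' 2 (by norm_num)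
  refine ⟨m, Nat.not_even_iff_odd.1 fun h => hm h.two_dvd, ?_⟩
  have hp : IsPGroup 2 (Subgroup.zpowers (x ^ m)) := by
    refine IsPGroup.of_card (n := k) ?_
    rw [Nat.card_zpowers, orderOf_pow, hk, Nat.gcd_mul_left_left]
    exact Nat.mul_div_cancel _ (Nat.pos_of_ne_zero fun h => hm (h ▸ dvd_zero 2))
  exact ((hp.inf_normalizer_sylow S).le
    ⟨Subgroup.mem_zpowers _, Subgroup.pow_mem _ hx m⟩).2

theorem exists_rotation [IsSimpleGroup G] (hG : ¬ IsMulCommutative G)
    (hI : ∀ t : G, orderOf t = 2 → Cfsg.HasNormalPComplement 2 ↥(Subgroup.centralizer ({t} : Set G)))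
    (hS : U34Group (S : Subgroup G)) : ∃ n, Rotation S n := by
  haveI : Fact (Nat.Prime 2) := ⟨Nat.prime_two⟩
  haveI := Fintype.ofFinite (zed S)
  have hZS : zed S ≤ (S : Subgroup G) := Subgroup.map_subtype_le _
  have hcen : ∀ t ∈ zed S, t ∈ Subgroup.centralizer ((S : Subgroup G) : Set G) := by
    rintro _ ⟨t, ht, rfl⟩
    exact Subgroup.mem_centralizer_iff.2 fun s hs =>
      congrArg Subtype.val (Subgroup.mem_center_iff.1 ht ⟨s, hs⟩)
  have h4 : Fintype.card (zed S) = 4 := by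
    rw [← Nat.card_eq_fintype_card, zed, Subgroup.card_map_of_injective
      (S : Subgroup G).subtype_injective, hS.centre]
  obtain ⟨⟨z, hz⟩, hz1'⟩ := Fintype.exists_ne_of_one_lt_card (α := zed S) (by omega) 1
  have hz1 : z ≠ 1 := fun h => hz1' (Subtype.ext h)
  have hinv : ∀ t ∈ (S : Subgroup G), orderOf t = 2 → t ∈ zed S := fun t ht h2 =>
    (mem_zed ht).2 ((hS.invol _).1 (Subtype.ext (by
      show t ^ 2 = 1
      rw [← h2, pow_orderOf_eq_one])))
  have hord : ∀ t ∈ zed S, t ≠ 1 → orderOf t = 2 := by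
    rintro t ⟨y, hy, rfl⟩ ht
    exact orderOf_eq_prime (congrArg Subtype.val ((hS.invol y).2 hy)) ht
  obtain ⟨g, hgS, hgne⟩ : ∃ g : G, g * z * g⁻¹ ∈ (S : Subgroup G) ∧ g * z * g⁻¹ ≠ z := by
    by_contra hno
    push Not at hno
    obtain ⟨N, hNn, hNodd, hcomm⟩ :=
      ZStar.exists_odd_normal_of_sylow S (hord z hz hz1) (hZS hz) hno
    rcases hNn.eq_bot_or_eq_top with rfl | rfl
    · rcases (Subgroup.center G).normal_of_characteristic.eq_bot_or_eq_top with hc | hc
      · refine hz1 ?_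
        have : z ∈ Subgroup.center G := Subgroup.mem_center_iff.2 fun g => by
          have := Subgroup.mem_bot.1 (hcomm g)
          exact (mul_inv_eq_iff_eq_mul.1 (mul_inv_eq_one.1 this)).symm
        rwa [hc, Subgroup.mem_bot] at this
      · exact hG ⟨⟨fun a b => (Subgroup.mem_center_iff.1 (hc ▸ Subgroup.mem_top a) b).symm⟩⟩
    · rw [Subgroup.card_top] at hNodd
      exact Nat.not_even_iff_odd.2 hNodd (even_iff_two_dvd.2
        ((hord z hz hz1 ▸ orderOf_dvd_natCard z)))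
  have hgz : g * z * g⁻¹ ∈ zed S :=
    hinv _ hgS ((BrauerSuzuki.orderOf_conj' g z).trans (hord z hz hz1))
  obtain ⟨n, hn, hnz⟩ := CfsgLib.Fusion.Transfer.burnside_central S (hcen z hz) (hcen _ hgz)
    ⟨g, rfl⟩
  have hmap : ∀ t ∈ zed S, n * t * n⁻¹ ∈ zed S := fun t ht => by
    by_cases h1 : t = 1
    · subst h1; simp
    · exact hinv _ ((Subgroup.mem_normalizer_iff.1 hn t).1 (hZS ht))
        ((BrauerSuzuki.orderOf_conj' n t).trans (hord t ht h1))
  obtain ⟨m, hm, hnm⟩ := exists_odd_pow_mem n hn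
  have hodd : ∀ t ∈ zed S, n * (n * t * n⁻¹) * n⁻¹ = t → n * t * n⁻¹ = t := by
    intro t ht h2
    have hev : ∀ j : ℕ, n ^ (2 * j) * t * (n ^ (2 * j))⁻¹ = t := by
      intro j
      induction j with
      | zero => simp
      | succ j ih =>
        calc n ^ (2 * (j + 1)) * t * (n ^ (2 * (j + 1)))⁻¹
            = n * (n * (n ^ (2 * j) * t * (n ^ (2 * j))⁻¹) * n⁻¹) * n⁻¹ := by
              rw [show 2 * (j + 1) = 1 + (1 + 2 * j) by omega, pow_add, pow_add, pow_one]; group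
          _ = t := by rw [ih, h2]
    obtain ⟨j, hj⟩ := hm
    have h3 : n ^ m * t * (n ^ m)⁻¹ = t :=
      mul_inv_eq_iff_eq_mul.2 (Subgroup.mem_centralizer_iff.1 (hcen t ht) _ hnm)
    rw [hj, show n ^ (2 * j + 1) * t * (n ^ (2 * j + 1))⁻¹ =
      n * (n ^ (2 * j) * t * (n ^ (2 * j))⁻¹) * n⁻¹ by rw [pow_succ']; group, hev] at h3
    exact h3
  set z' := n * z * n⁻¹ with hz'
  set z'' := n * z' * n⁻¹ with hz''
  have hz'm := hmap z hz
  have hz''m := hmap _ hz'm
  have hne : z' ≠ z := by rw [hnz]; exact hgne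
  have hne2 : z'' ≠ z := fun h => hne (hodd z hz h)
  have hne3 : z'' ≠ z' := fun h => hne (mul_left_cancel (mul_right_cancel h))
  have hall : ∀ w ∈ zed S, w ≠ 1 → w = z ∨ w = z' ∨ w = z'' := by
    intro w hw hw1
    by_contra hnot
    push Not at hnot
    have h5 : ({1, z, z', z'', w} : Finset G).card = 5 := by
      have a1 : z' ≠ 1 := fun h => hz1 (conj_eq_one_iff.1 h)
      have a2 : z'' ≠ 1 := fun h => a1 (conj_eq_one_iff.1 h)
      rw [Finset.card_insert_of_notMem, Finset.card_insert_of_notMem,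
        Finset.card_insert_of_notMem, Finset.card_insert_of_notMem, Finset.card_singleton]
      · simpa using hnot.2.2.symm
      · simp [hne3.symm, hnot.2.1.symm]
      · simp [hne.symm, hne2.symm, hnot.1.symm]
      · simp [hz1.symm, a1.symm, a2.symm, hw1.symm]
    have hsub : ({1, z, z', z'', w} : Finset G) ⊆ (Finset.univ : Finset (zed S)).image Subtype.val := by
      intro x hx
      simp only [Finset.mem_insert, Finset.mem_singleton] at hx
      refine Finset.mem_image.2 ⟨⟨x, ?_⟩, Finset.mem_univ _, rfl⟩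
      rcases hx with rfl | rfl | rfl | rfl | rfl
      exacts [one_mem _, hz, hz'm, hz''m, hw]
    have := (Finset.card_le_card hsub).trans Finset.card_image_le
    rw [h5, Finset.card_univ, h4] at this
    omega
  have hz3 : n * z'' * n⁻¹ = z := by
    rcases hall _ (hmap _ hz''m) (fun h => hne2 (by
      have h1 : z'' = 1 := conj_eq_one_iff.1 h
      exact absurd (conj_eq_one_iff.1 (conj_eq_one_iff.1 h1)) hz1)) with h | h | h
    · exact h
    · exact absurd (mul_left_cancel (mul_right_cancel h)) hne2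
    · exact absurd (mul_left_cancel (mul_right_cancel h)) hne3
  refine ⟨n, hI, hS, hn, fun t ht ht1 => ?_⟩
  rcases hall t ht ht1 with rfl | rfl | rfl
  · exact ⟨hne, hz3, hall⟩
  · refine ⟨hne3, by rw [← hz'', hz3], fun w hw hw1 => ?_⟩
    rw [← hz'', hz3]
    rcases hall w hw hw1 with h | h | h <;> simp [h]
  · refine ⟨by rw [hz3]; exact hne2.symm, by rw [hz3], fun w hw hw1 => ?_⟩
    rw [hz3]
    rcases hall w hw hw1 with h | h | h <;> simp [h, ← hz']

namespace Rotation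

variable {n : G} (h : Rotation S n)
include h

theorem zed_le : zed S ≤ (S : Subgroup G) := Subgroup.map_subtype_le _

theorem orderOf_zed {t : G} (ht : t ∈ zed S) (ht1 : t ≠ 1) : orderOf t = 2 := by
  obtain ⟨y, hy, rfl⟩ := ht
  exact orderOf_eq_prime (congrArg Subtype.val ((h.grp.invol y).2 hy)) ht1

theorem mem_zed_of_orderOf {t : G} (ht : t ∈ (S : Subgroup G)) (h2 : orderOf t = 2) : t ∈ zed S :=
  (mem_zed ht).2 ((h.grp.invol _).1 (Subtype.ext (by
    show t ^ 2 = 1
    rw [← h2, pow_orderOf_eq_one])))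

theorem sylow_le_centralizer {t : G} (ht : t ∈ zed S) :
    (S : Subgroup G) ≤ Subgroup.centralizer ({t} : Set G) := by
  obtain ⟨y, hy, rfl⟩ := ht
  intro s hs
  exact Subgroup.mem_centralizer_singleton_iff.2
    (congrArg Subtype.val (Subgroup.mem_center_iff.1 hy ⟨s, hs⟩))

theorem isConj_zed {t w : G} (ht : t ∈ zed S) (ht1 : t ≠ 1) (hw : w ∈ zed S) (hw1 : w ≠ 1) :
    IsConj t w := by
  rcases (h.moves t ht ht1).2.2 w hw hw1 with e | e | e <;> rw [e]
  exacts [isConj_iff.2 ⟨n, rfl⟩, isConj_iff.2 ⟨n * n, by group⟩]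

/-- Fusion inside the centralizer of a central involution. -/
theorem conj_in_sylow {x c : G} (hx : x ∈ (S : Subgroup G)) {t : G} (ht : t ∈ zed S) (ht1 : t ≠ 1)
    (hc : c ∈ Subgroup.centralizer ({t} : Set G)) (hcx : c * x * c⁻¹ ∈ (S : Subgroup G)) :
    ∃ r ∈ (S : Subgroup G), r * x * r⁻¹ = c * x * c⁻¹ := by
  haveI : Fact (Nat.Prime 2) := ⟨Nat.prime_two⟩
  have hSC := h.sylow_le_centralizer ht
  obtain ⟨π, hπ, -⟩ := exists_retraction (h.npc t (h.orderOf_zed ht ht1)) (S.subtype hSC)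
  set C := Subgroup.centralizer ({t} : Set G)
  set a : C := ⟨x, hSC hx⟩
  set b : C := ⟨c, hc⟩
  have ha : ((π a : (S.subtype hSC : Subgroup C)) : C) = a :=
    congrArg Subtype.val (hπ ⟨a, Subgroup.mem_subgroupOf.2 hx⟩)
  have hb : ((π (b * a * b⁻¹) : (S.subtype hSC : Subgroup C)) : C) = b * a * b⁻¹ :=
    congrArg Subtype.val (hπ ⟨b * a * b⁻¹, Subgroup.mem_subgroupOf.2 hcx⟩)
  refine ⟨(((π b : (S.subtype hSC : Subgroup C)) : C) : G), Subgroup.mem_subgroupOf.1 (π b).2, ?_⟩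
  rw [map_mul, map_mul, map_inv] at hb
  have := congrArg (fun y : C => (y : G)) hb
  simp only [Subgroup.coe_mul, Subgroup.coe_inv, ha] at this ⊢
  exact this

theorem sq_ne_one {x : G} (hx : x ∈ (S : Subgroup G)) (hxz : x ∉ zed S) : x ^ 2 ≠ 1 := fun h1 =>
  hxz ((mem_zed hx).2 ((h.grp.invol _).1 (Subtype.ext h1)))

theorem sq_mem {x : G} (hx : x ∈ (S : Subgroup G)) : x ^ 2 ∈ zed S :=
  ⟨(⟨x, hx⟩ : (S : Subgroup G)) ^ 2, h.grp.square _, rfl⟩

/-- The rotation of `S`. -/
noncomputable def rot : (S : Subgroup G) →* (S : Subgroup G) :=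
  MonoidHom.mk' (fun x => ⟨n * x * n⁻¹, (Subgroup.mem_normalizer_iff.1 h.mem x).1 x.2⟩)
    fun a b => Subtype.ext (by simp [mul_assoc])

theorem rot_coe (x : (S : Subgroup G)) : ((h.rot x : (S : Subgroup G)) : G) = n * x * n⁻¹ := rfl

/-- Fusion in `S`. -/
theorem fus {g : G} {x : (S : Subgroup G)} (hxz : (x : G) ∉ zed S)
    (hgx : g * (x : G) * g⁻¹ ∈ (S : Subgroup G)) :
    ∃ r : (S : Subgroup G), (⟨_, hgx⟩ : (S : Subgroup G)) = r * x * r⁻¹ ∨
      (⟨_, hgx⟩ : (S : Subgroup G)) = h.rot (r * x * r⁻¹) ∨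
      (⟨_, hgx⟩ : (S : Subgroup G)) = h.rot (h.rot (r * x * r⁻¹)) := by
  set z := (x : G) ^ 2 with hz
  have hz1 : z ≠ 1 := h.sq_ne_one x.2 hxz
  have hzm : z ∈ zed S := h.sq_mem x.2
  have hw : g * z * g⁻¹ ∈ zed S := by rw [hz, ← conj_pow]; exact h.sq_mem hgx
  have main : ∀ k : G, g * z * g⁻¹ = k * z * k⁻¹ → k⁻¹ * (g * (x : G) * g⁻¹) * k ∈ (S : Subgroup G) →
      ∃ r : (S : Subgroup G), g * (x : G) * g⁻¹ = k * ((r : G) * x * (r : G)⁻¹) * k⁻¹ := by
    intro k hk hmem
    have hc : k⁻¹ * g ∈ Subgroup.centralizer ({z} : Set G) := by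
      rw [Subgroup.mem_centralizer_singleton_iff]
      calc k⁻¹ * g * z = k⁻¹ * (g * z * g⁻¹) * g := by group
        _ = z * (k⁻¹ * g) := by rw [hk]; group
    obtain ⟨r, hr, he⟩ := h.conj_in_sylow x.2 hzm hz1 hc
      (by rwa [show k⁻¹ * g * (x : G) * (k⁻¹ * g)⁻¹ = k⁻¹ * (g * (x : G) * g⁻¹) * k by group])
    exact ⟨⟨r, hr⟩, by show _ = k * (r * (x : G) * r⁻¹) * k⁻¹; rw [he]; group⟩
  have hnorm : ∀ k ∈ Subgroup.normalizer ((S : Subgroup G) : Set G), ∀ y ∈ (S : Subgroup G),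
      k⁻¹ * y * k ∈ (S : Subgroup G) := fun k hk y hy => by
    simpa using (Subgroup.mem_normalizer_iff.1 (inv_mem hk) y).1 hy
  rcases (h.moves z hzm hz1).2.2 _ hw (fun e => hz1 (conj_eq_one_iff.1 e)) with e | e | e
  · obtain ⟨r, hr⟩ := main 1 (by simpa using e) (by simpa using hgx)
    exact ⟨r, Or.inl (Subtype.ext (by simpa using hr))⟩
  · obtain ⟨r, hr⟩ := main n e (hnorm n h.mem _ hgx)
    exact ⟨r, Or.inr (Or.inl (Subtype.ext (by simpa [rot_coe, mul_assoc] using hr)))⟩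
  · obtain ⟨r, hr⟩ := main (n * n) (by rw [e]; group) (hnorm _ (mul_mem h.mem h.mem) _ hgx)
    exact ⟨r, Or.inr (Or.inr (Subtype.ext (by simpa [rot_coe, mul_assoc] using hr)))⟩

theorem rot_cube (x : (S : Subgroup G)) :
    ∃ r : (S : Subgroup G), h.rot (h.rot (h.rot x)) = r * x * r⁻¹ := by
  by_cases h1 : Subgroup.center (S : Subgroup G) = ⊥
  · have := h.grp.centre; rw [h1, Subgroup.card_bot] at this; norm_num at this
  obtain ⟨⟨z, hz⟩, hz1⟩ := Subgroup.ne_bot_iff_exists_ne_one.1 h1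
  have hzm : (z : G) ∈ zed S := ⟨z, hz, rfl⟩
  have hz1' : (z : G) ≠ 1 := fun e => hz1 (Subtype.ext (Subtype.ext e))
  obtain ⟨r, hr, he⟩ := h.conj_in_sylow x.2 hzm hz1' (c := n * n * n) (by
    rw [Subgroup.mem_centralizer_singleton_iff]
    refine mul_inv_eq_iff_eq_mul.1 ?_
    conv_rhs => rw [← (h.moves _ hzm hz1').2.1]
    group) (by
      have := (h.rot (h.rot (h.rot x))).2
      simpa [rot_coe, mul_assoc] using this)
  refine ⟨⟨r, hr⟩, Subtype.ext ?_⟩
  simpa [rot_coe, mul_assoc] using he.symm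

theorem rot_ne {x : (S : Subgroup G)} (hx : x ∉ Subgroup.center (S : Subgroup G)) :
    x⁻¹ * h.rot x ∉ Subgroup.center (S : Subgroup G) := by
  intro hc
  have hxz : (x : G) ∉ zed S := fun e => hx ((mem_zed x.2).1 e)
  have hsq : h.rot x ^ 2 = x ^ 2 := by
    rw [show h.rot x = x * (x⁻¹ * h.rot x) by group, Commute.mul_pow
      (show Commute x (x⁻¹ * h.rot x) from Subgroup.mem_center_iff.1 hc x), (h.grp.invol _).2 hc,
      mul_one]
  refine (h.moves _ (h.sq_mem x.2) (h.sq_ne_one x.2 hxz)).1 ?_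
  have := congrArg Subtype.val hsq
  rw [Subgroup.coe_pow, Subgroup.coe_pow, rot_coe] at this
  rwa [← conj_pow]

end Rotation

end CfsgLib.Involution.AllNilpotent
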